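import Mathlib
import Cfsg.Agent.H835.AN.Deg_m3
import Cfsg.Agent.H704.S8.Defs_m3
import Cfsg.Agent.H424.DegTools
import Cfsg.Agent.H691.PDvd
import Cfsg.Agent.H597.Degrees
import Cfsg.Agent.OddOrderCharacters.IndRes
import Cfsg.Agent.OddOrderCharacters.InertiaAbelian
import Cfsg.Agent.CharactersDeep.CliffordSum
import Cfsg.Agent.CharactersDeep.ExtUnique
import Cfsg.Agent.OddOrderCharacters.PrimeTI
import Cfsg.Agent.H456.FourA
import Cfsg.Agent.S4454
import Cfsg.Agent.H546.AN6.Main_mg_m3
import Cfsg.Agent.FastGrp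
import Cfsg.Agent.Prune
set_option linter.all false
prune_inst 0x7ffcfffdefa88ddfdfff7e3ffef9dffe32c4cfffefdffb4bffede9bfefdf23333bc5fb8f1de050ff8ef7e2b430b87813fb7eeeffef6fdc7ffffdfff45ffbee4fe5f7bf8951d79c340fbc2fff63f37fbeef3ffffffffffffffffffffffffffffffffffbfeffff
open scoped Cfsg.Agent.FastGrp

-- part: H245/AN/Data
section
/-!
# S4766, piece B10: the data for `5 ≤ n ≤ 19` (helper245)

`cert n` : the degrees `f > 1` of `A_n` with witnesses; `wit n` : witnesses with their partitions.
-/

set_option autoImplicit false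

namespace Cfsg.Agent.H245.AN

/-- degrees of `A_5` -/
def cert5 : List (ℕ × List ℕ) :=
  [(3, [5, 4]), (4, [5, 3]), (5, [4, 3])]

/-- witnesses for `A_5` -/
def wit5 : List (ℕ × List ℕ) :=
  [(5, [3, 2]), (4, [4, 1]), (3, [3, 1, 1])]

/-- degrees of `A_6` -/
def cert6 : List (ℕ × List ℕ) :=
  [(5, [9, 8]), (8, [9, 10]), (9, [10, 8]), (10, [8])]

/-- witnesses for `A_6` -/
def wit6 : List (ℕ × List ℕ) :=
  [(9, [4, 2]), (10, [4, 1, 1]), (8, [3, 2, 1])]

/-- degrees of `A_7` -/
def cert7 : List (ℕ × List ℕ) :=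
  [(6, [21, 15]), (10, [6]), (14, [6]), (15, [6]), (21, [6]), (35, [6])]

/-- witnesses for `A_7` -/
def wit7 : List (ℕ × List ℕ) :=
  [(6, [6, 1]), (21, [3, 3, 1]), (15, [5, 1, 1])]

/-- degrees of `A_8` -/
def cert8 : List (ℕ × List ℕ) :=
  [(7, [64, 45]), (14, [64]), (20, [64]), (21, [64, 45]), (28, [64]), (35, [64, 45]), (45, [64, 70]), (56, [64]),
   (64, [45, 70]), (70, [64])]

/-- witnesses for `A_8` -/
def wit8 : List (ℕ × List ℕ) :=
  [(64, [5, 2, 1]), (45, [4, 2, 1, 1]), (70, [4, 3, 1])]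

/-- degrees of `A_9` -/
def cert9 : List (ℕ × List ℕ) :=
  [(8, [162, 35]), (21, [162]), (27, [35, 120]), (28, [35]), (35, [162, 120]), (42, [162]), (48, [162]),
   (56, [35]), (84, [162]), (105, [162]), (120, [162]), (162, [35]), (168, [162]), (189, [162]), (216, [162])]

/-- witnesses for `A_9` -/
def wit9 : List (ℕ × List ℕ) :=
  [(162, [5, 3, 1]), (35, [5, 1, 1, 1, 1]), (120, [5, 2, 2])]

/-- degrees of `A_10` -/
def cert10 : List (ℕ × List ℕ) :=
  [(9, [384, 350]), (35, [384, 567]), (36, [384]), (42, [384]), (75, [350]), (84, [384]), (90, [384]),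
   (126, [384]), (160, [384]), (210, [384]), (224, [384]), (225, [350]), (252, [384]), (288, [384]), (300, [384]),
   (315, [350]), (350, [384]), (384, [567]), (450, [384]), (525, [350]), (567, [384, 350])]

/-- witnesses for `A_10` -/
def wit10 : List (ℕ × List ℕ) :=
  [(384, [4, 3, 2, 1]), (350, [6, 2, 1, 1]), (567, [5, 3, 1, 1])]

/-- degrees of `A_11` -/
def cert11 : List (ℕ × List ℕ) :=
  [(10, [825, 126]), (44, [825, 126]), (45, [126, 825]), (110, [126]), (120, [126]), (126, [2310]), (132, [126]),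
   (165, [126]), (210, [126]), (231, [126]), (330, [126]), (385, [126]), (462, [126]), (550, [126]), (594, [126]),
   (660, [126]), (693, [126]), (825, [126]), (924, [126]), (990, [126]), (1100, [126]), (1155, [126]),
   (1232, [126]), (1320, [126]), (1540, [126]), (2310, [126])]

/-- witnesses for `A_11` -/
def wit11 : List (ℕ × List ℕ) :=
  [(126, [6, 1, 1, 1, 1, 1]), (825, [5, 2, 2, 2]), (2310, [5, 3, 2, 1])]

/-- degrees of `A_12` -/
def cert12 : List (ℕ × List ℕ) :=
  [(11, [1050, 1728]), (54, [1050, 5632]), (55, [1050]), (132, [5632]), (154, [5632]), (165, [1050]),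
   (275, [1050]), (297, [1050, 5632]), (320, [1050]), (330, [1050]), (462, [5632]), (616, [5632]), (891, [1050]),
   (945, [1050]), (1050, [5632]), (1155, [1050]), (1320, [1050]), (1408, [1050]), (1485, [1050]), (1650, [1050]),
   (1728, [1050]), (1925, [1050]), (2079, [1050]), (2112, [1050]), (2376, [1050]), (2673, [1050]), (2970, [1050]),
   (3080, [1050]), (3520, [1050]), (3564, [1050]), (3696, [1050]), (3850, [1050]), (4158, [1050]), (4455, [1050]),
   (5632, [1050]), (5775, [1050])]

/-- witnesses for `A_12` -/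
def wit12 : List (ℕ × List ℕ) :=
  [(1050, [6, 2, 1, 1, 1, 1]), (5632, [6, 3, 2, 1]), (1728, [7, 2, 1, 1, 1])]

/-- degrees of `A_13` -/
def cert13 : List (ℕ × List ℕ) :=
  [(12, [462, 3640, 495]), (65, [462, 7371]), (66, [495]), (208, [3640]), (220, [3640]), (429, [3640]),
   (462, [3640]), (495, [3640]), (572, [3640]), (792, [3640]), (936, [3640]), (1287, [3640]), (1365, [3640]),
   (1430, [3640]), (2574, [3640]), (2860, [3640]), (3003, [3640]), (3432, [3640]), (3575, [3640]), (3640, [462]),
   (4004, [3640]), (4212, [3640]), (4290, [3640]), (5005, [3640]), (5148, [3640]), (5720, [3640]), (6006, [3640]),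
   (6435, [3640]), (6864, [3640]), (7371, [3640]), (7800, [3640]), (8008, [3640]), (8580, [3640]), (9009, [3640]),
   (9360, [3640]), (10296, [3640]), (11440, [3640]), (11583, [3640]), (12012, [3640]), (12870, [3640]),
   (15015, [3640]), (17160, [3640]), (20592, [3640]), (21450, [3640])]

/-- witnesses for `A_13` -/
def wit13 : List (ℕ × List ℕ) :=
  [(3640, [8, 2, 2, 1]), (462, [7, 1, 1, 1, 1, 1, 1]), (495, [9, 1, 1, 1, 1]), (7371, [7, 2, 2, 1, 1])]

/-- degrees of `A_14` -/
def cert14 : List (ℕ × List ℕ) :=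
  [(13, [560, 4752, 8085]), (77, [560, 47775]), (78, [560]), (273, [560]), (286, [560]), (429, [560]),
   (560, [47775]), (637, [560]), (715, [560]), (1001, [560]), (1287, [560]), (1365, [560]), (1716, [560]),
   (2002, [560]), (2079, [560]), (4368, [560]), (4576, [560]), (4752, [560]), (4928, [560]), (5733, [560]),
   (6006, [560]), (6435, [560]), (7007, [560]), (7644, [560]), (8085, [560]), (9009, [560]), (12012, [560]),
   (13650, [560]), (14014, [560]), (15015, [560]), (15444, [560]), (16016, [560]), (20384, [560]), (21021, [560]),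
   (21450, [560]), (23296, [560]), (24960, [560]), (27027, [560]), (28028, [560]), (28665, [560]), (29952, [560]),
   (34320, [560]), (35035, [560]), (36608, [560]), (42042, [560]), (47775, [560]), (48048, [560]), (50050, [560]),
   (63063, [560]), (64064, [560]), (69498, [560])]

/-- witnesses for `A_14` -/
def wit14 : List (ℕ × List ℕ) :=
  [(560, [11, 2, 1]), (47775, [7, 3, 2, 1, 1]), (8085, [8, 2, 1, 1, 1, 1]), (4752, [7, 2, 1, 1, 1, 1, 1])]

/-- degrees of `A_15` -/
def cert15 : List (ℕ × List ℕ) :=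
  [(14, [2835, 146432]), (90, [2835]), (91, [2835, 11088]), (350, [11088]), (364, [11088]), (715, [11088]),
   (910, [11088]), (1001, [11088]), (1430, [11088]), (1638, [11088]), (1716, [11088]), (1925, [11088]),
   (2002, [11088]), (2835, [11088]), (2925, [11088]), (3003, [11088]), (5005, [11088]), (6006, [11088]),
   (7007, [11088]), (7722, [11088]), (9100, [11088]), (9450, [11088]), (11088, [2835]), (11375, [11088]),
   (11583, [11088]), (12012, [11088]), (12740, [11088]), (13650, [11088]), (14300, [11088]), (19305, [11088]),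
   (21450, [11088]), (22113, [11088]), (24948, [11088]), (25025, [11088]), (26950, [11088]), (27027, [11088]),
   (28028, [11088]), (30030, [11088]), (32032, [11088]), (34398, [11088]), (35035, [11088]), (35100, [11088]),
   (42042, [11088]), (43120, [11088]), (44550, [11088]), (45045, [11088]), (50050, [11088]), (51975, [11088]),
   (53625, [11088]), (54054, [11088]), (57330, [11088]), (58968, [11088]), (61425, [11088]), (63700, [11088]),
   (70070, [11088]), (75075, [11088]), (78000, [11088]), (80080, [11088]), (81081, [11088]), (90090, [11088]),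
   (91000, [11088]), (96525, [11088]), (100100, [11088]), (108108, [11088]), (112112, [11088]), (122850, [11088]),
   (125125, [11088]), (126126, [11088]), (128700, [11088]), (135135, [11088]), (146432, [11088]),
   (150150, [11088]), (159250, [11088]), (162162, [11088]), (175175, [11088]), (184275, [11088]),
   (210210, [11088]), (221130, [11088]), (231660, [11088]), (243243, [11088])]

/-- witnesses for `A_15` -/
def wit15 : List (ℕ × List ℕ) :=
  [(11088, [10, 3, 1, 1]), (2835, [11, 3, 1]), (146432, [5, 4, 3, 2, 1])]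

/-- degrees of `A_16` -/
def cert16 : List (ℕ × List ℕ) :=
  [(15, [464373, 155232, 416988]), (104, [155232, 464373, 416988]), (105, [464373, 155232]),
   (440, [155232, 416988]), (455, [155232, 464373]), (896, [155232]), (1260, [155232]), (1365, [155232]),
   (1430, [155232, 416988]), (2548, [155232]), (2640, [155232]), (3003, [155232]), (3432, [155232]),
   (3640, [155232]), (3900, [155232]), (4004, [155232]), (5005, [155232]), (6435, [155232]), (10752, [155232]),
   (11648, [155232]), (12012, [155232]), (13860, [155232]), (14300, [155232]), (16848, [155232]),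
   (18018, [155232]), (20020, [155232]), (21021, [155232]), (21840, [155232]), (23100, [155232]),
   (24024, [155232]), (24960, [155232]), (30030, [155232]), (32032, [155232]), (36036, [155232]),
   (36608, [155232]), (38220, [155232]), (42120, [155232]), (43120, [155232]), (45760, [155232]),
   (51480, [155232]), (60060, [155232]), (65520, [155232]), (68640, [155232]), (69888, [155232]),
   (71500, [155232]), (71680, [155232]), (73710, [155232]), (76440, [155232]), (80640, [155232]),
   (82368, [155232]), (85800, [155232]), (91520, [155232]), (91728, [155232]), (100100, [155232]),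
   (105600, [155232]), (112112, [155232]), (114400, [155232]), (114660, [155232]), (115830, [155232]),
   (116480, [155232]), (125125, [155232]), (140140, [155232]), (150150, [155232]), (155232, [464373]),
   (168168, [155232]), (171600, [155232]), (173250, [155232]), (180180, [155232]), (194040, [155232]),
   (197120, [155232]), (200200, [155232]), (202125, [155232]), (206388, [155232]), (210210, [155232]),
   (231660, [155232]), (240240, [155232]), (262080, [155232]), (266240, [155232]), (280280, [155232]),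
   (292864, [155232]), (300300, [155232]), (305760, [155232]), (318500, [155232]), (320320, [155232]),
   (336336, [155232]), (337920, [155232]), (360360, [155232]), (411840, [155232]), (416988, [155232]),
   (429000, [155232]), (448448, [155232]), (464373, [155232]), (480480, [155232]), (500500, [155232]),
   (512512, [155232]), (515970, [155232]), (549120, [155232]), (559104, [155232]), (582400, [155232]),
   (600600, [155232]), (630630, [155232]), (640640, [155232]), (648648, [155232]), (673920, [155232]),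
   (698880, [155232]), (819000, [155232]), (1153152, [155232])]

/-- witnesses for `A_16` -/
def wit16 : List (ℕ × List ℕ) :=
  [(155232, [8, 2, 2, 2, 1, 1]), (464373, [6, 4, 2, 2, 1, 1]), (416988, [7, 5, 3, 1])]

/-- degrees of `A_17` -/
def cert17 : List (ℕ × List ℕ) :=
  [(16, [1105, 631125, 6435, 2858856]), (119, [1105, 631125]), (120, [631125, 1105, 6435]), (544, [1105]),
   (560, [6435]), (1105, [631125]), (1700, [631125]), (1820, [631125]), (3536, [1105]), (3808, [6435]),
   (4368, [1105]), (4862, [1105]), (5236, [6435]), (5355, [631125]), (6188, [1105]), (6435, [631125]),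
   (7072, [1105]), (8008, [6435]), (11440, [631125]), (15912, [631125]), (17017, [631125]), (19448, [631125]),
   (20400, [631125]), (20944, [631125]), (24752, [631125]), (33320, [631125]), (35700, [631125]),
   (37400, [631125]), (38675, [631125]), (46410, [631125]), (48620, [631125]), (62832, [631125]),
   (65637, [631125]), (68068, [631125]), (70720, [631125]), (74256, [631125]), (85085, [631125]),
   (87516, [631125]), (116688, [631125]), (121550, [631125]), (123760, [631125]), (129948, [631125]),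
   (134640, [631125]), (136136, [631125]), (145860, [631125]), (148512, [631125]), (155584, [631125]),
   (157080, [631125]), (159120, [631125]), (170170, [631125]), (194480, [631125]), (204204, [631125]),
   (205632, [631125]), (209440, [631125]), (233376, [631125]), (238238, [631125]), (243100, [631125]),
   (247520, [631125]), (259896, [631125]), (272272, [631125]), (291720, [631125]), (318240, [631125]),
   (327250, [631125]), (333200, [631125]), (340340, [631125]), (346528, [631125]), (353600, [631125]),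
   (364650, [631125]), (388960, [631125]), (399840, [631125]), (408408, [631125]), (433160, [631125]),
   (466752, [631125]), (486200, [631125]), (523600, [631125]), (544544, [631125]), (556920, [631125]),
   (565488, [631125]), (583440, [631125]), (586432, [631125]), (618800, [631125]), (631125, [1105]),
   (680680, [631125]), (700128, [631125]), (729300, [631125]), (742560, [631125]), (749700, [631125]),
   (765765, [631125]), (816816, [631125]), (848640, [631125]), (850850, [631125]), (891072, [631125]),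
   (908820, [631125]), (918918, [631125]), (952952, [631125]), (972400, [631125]), (1021020, [631125]),
   (1047200, [631125]), (1050192, [631125]), (1082900, [631125]), (1089088, [631125]), (1113840, [631125]),
   (1299480, [631125]), (1326000, [631125]), (1336608, [631125]), (1361360, [631125]), (1429428, [631125]),
   (1454112, [631125]), (1485120, [631125]), (1570800, [631125]), (1591200, [631125]), (1633632, [631125]),
   (1701700, [631125]), (1750320, [631125]), (1832600, [631125]), (1905904, [631125]), (2165800, [631125]),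
   (2255526, [631125]), (2362932, [631125]), (2431000, [631125]), (2436525, [631125]), (2450448, [631125]),
   (2475200, [631125]), (2552550, [631125]), (2598960, [631125]), (2722720, [631125]), (2858856, [631125]),
   (3573570, [631125]), (3620864, [631125])]

/-- witnesses for `A_17` -/
def wit17 : List (ℕ × List ℕ) :=
  [(631125, [7, 3, 3, 1, 1, 1, 1]), (1105, [14, 2, 1]), (6435, [9, 1, 1, 1, 1, 1, 1, 1, 1]), (2858856, [7, 4, 2, 2, 1, 1])]

/-- degrees of `A_18` -/
def cert18 : List (ℕ × List ℕ) :=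
  [(17, [24192, 91520, 7020]), (135, [24192, 6872250]), (136, [91520, 6872250]), (663, [91520, 6872250]),
   (680, [91520]), (1344, [91520]), (2244, [91520]), (2380, [91520]), (4641, [7020]), (4862, [91520]),
   (5508, [91520]), (6188, [91520]), (6885, [6872250]), (7020, [91520]), (9996, [91520]), (11934, [91520]),
   (12376, [91520]), (13260, [91520]), (19448, [91520]), (22848, [91520]), (24192, [91520]), (24310, [91520]),
   (29172, [91520]), (29835, [91520]), (35343, [91520]), (53040, [91520]), (56100, [91520]), (58344, [91520]),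
   (60060, [91520]), (70720, [91520]), (87516, [91520]), (88128, [91520]), (91520, [6872250]), (99144, [91520]),
   (102102, [91520]), (106029, [91520]), (111384, [91520]), (112320, [91520]), (116025, [91520]),
   (136136, [91520]), (143208, [91520]), (162162, [91520]), (182784, [91520]), (219912, [91520]),
   (228480, [91520]), (238680, [91520]), (251328, [91520]), (255255, [91520]), (259896, [91520]),
   (268515, [91520]), (302940, [91520]), (322218, [91520]), (331500, [91520]), (339456, [91520]),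
   (340340, [91520]), (353430, [91520]), (358020, [91520]), (363528, [91520]), (364650, [91520]),
   (408408, [91520]), (447525, [91520]), (459459, [91520]), (466752, [91520]), (501228, [91520]),
   (510510, [91520]), (556920, [91520]), (583440, [91520]), (590733, [91520]), (595595, [91520]),
   (612612, [91520]), (649740, [91520]), (656370, [91520]), (659736, [91520]), (678912, [91520]),
   (714714, [91520]), (779688, [91520]), (787644, [91520]), (837760, [91520]), (848232, [91520]),
   (875160, [91520]), (933504, [91520]), (952952, [91520]), (1018368, [91520]), (1021020, [91520]),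
   (1089088, [91520]), (1099560, [91520]), (1131520, [91520]), (1145664, [91520]), (1175040, [91520]),
   (1215500, [91520]), (1225224, [91520]), (1233792, [91520]), (1244672, [91520]), (1272348, [91520]),
   (1312740, [91520]), (1349460, [91520]), (1357824, [91520]), (1429428, [91520]), (1432080, [91520]),
   (1458600, [91520]), (1503684, [91520]), (1531530, [91520]), (1575288, [91520]), (1649340, [91520]),
   (1790100, [91520]), (1823250, [91520]), (1989000, [91520]), (2042040, [91520]), (2144142, [91520]),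
   (2148120, [91520]), (2333760, [91520]), (2362932, [91520]), (2382380, [91520]), (2598960, [91520]),
   (2625480, [91520]), (2756754, [91520]), (2784600, [91520]), (2858856, [91520]), (2923830, [91520]),
   (2970240, [91520]), (3007368, [91520]), (3055104, [91520]), (3180870, [91520]), (3198720, [91520]),
   (3222180, [91520]), (3267264, [91520]), (3281850, [91520]), (3403400, [91520]), (3508596, [91520]),
   (3544398, [91520]), (3646500, [91520]), (3675672, [91520]), (3734016, [91520]), (3877632, [91520]),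
   (3960320, [91520]), (3965760, [91520]), (3978000, [91520]), (4200768, [91520]), (4230144, [91520]),
   (4288284, [91520]), (4455360, [91520]), (4511052, [91520]), (4594590, [91520]), (4691456, [91520]),
   (4725864, [91520]), (4862000, [91520]), (4950400, [91520]), (5012280, [91520]), (5105100, [91520]),
   (5250960, [91520]), (5346432, [91520]), (5361664, [91520]), (5469750, [91520]), (5937624, [91520]),
   (6126120, [91520]), (6265350, [91520]), (6361740, [91520]), (6432426, [91520]), (6534528, [91520]),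
   (6789120, [91520]), (6872250, [91520]), (7088796, [91520]), (7634088, [91520]), (7876440, [91520]),
   (8019648, [91520]), (8078400, [91520]), (8270262, [91520]), (8486400, [91520]), (8576568, [91520]),
   (9165312, [91520]), (9189180, [91520]), (9529520, [91520]), (9801792, [91520]), (10720710, [91520]),
   (11277630, [91520]), (13366080, [91520]), (16243500, [91520]), (16336320, [91520])]

/-- witnesses for `A_18` -/
def wit18 : List (ℕ × List ℕ) :=
  [(91520, [9, 2, 1, 1, 1, 1, 1, 1, 1]), (6872250, [8, 4, 3, 1, 1, 1]), (24192, [13, 2, 1, 1, 1]), (7020, [14, 2, 1, 1])]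

/-- degrees of `A_19` -/
def cert19 : List (ℕ × List ℕ) :=
  [(18, [5985, 24310, 1217216]), (152, [5985]), (153, [5985, 24310]), (798, [1217216]), (816, [1217216]),
   (1615, [5985]), (2907, [5985]), (3060, [1217216]), (5985, [1217216]), (7752, [1217216]), (8568, [1217216]),
   (8892, [1217216]), (9044, [1217216]), (15504, [1217216]), (16796, [1217216]), (18564, [1217216]),
   (23256, [1217216]), (24310, [1217216]), (25194, [1217216]), (31824, [1217216]), (31977, [1217216]),
   (33592, [1217216]), (40698, [1217216]), (41496, [1217216]), (43758, [1217216]), (49248, [1217216]),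
   (75582, [1217216]), (81396, [1217216]), (85272, [1217216]), (88179, [1217216]), (90440, [1217216]),
   (151164, [1217216]), (160056, [1217216]), (169575, [1217216]), (175560, [1217216]), (184756, [1217216]),
   (203490, [1217216]), (277134, [1217216]), (293930, [1217216]), (369512, [1217216]), (372096, [1217216]),
   (383724, [1217216]), (403104, [1217216]), (415701, [1217216]), (421344, [1217216]), (444600, [1217216]),
   (488376, [1217216]), (529074, [1217216]), (554268, [1217216]), (566865, [1217216]), (596904, [1217216]),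
   (604656, [1217216]), (639540, [1217216]), (646646, [1217216]), (680238, [1217216]), (755820, [1217216]),
   (795872, [1217216]), (815100, [1217216]), (831402, [1217216]), (840294, [1217216]), (949620, [1217216]),
   (976752, [1217216]), (1017450, [1217216]), (1058148, [1217216]), (1108536, [1217216]), (1119195, [1217216]),
   (1200420, [1217216]), (1217216, [5985]), (1234506, [1217216]), (1322685, [1217216]), (1369368, [1217216]),
   (1410864, [1217216]), (1511640, [1217216]), (1534896, [1217216]), (1569780, [1217216]), (1627920, [1217216]),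
   (1662804, [1217216]), (1790712, [1217216]), (1847560, [1217216]), (2046528, [1217216]), (2078505, [1217216]),
   (2116296, [1217216]), (2217072, [1217216]), (2263261, [1217216]), (2441880, [1217216]), (2494206, [1217216]),
   (2519400, [1217216]), (2586584, [1217216]), (2686068, [1217216]), (2834325, [1217216]), (2909907, [1217216]),
   (3038784, [1217216]), (3325608, [1217216]), (3391500, [1217216]), (3410880, [1217216]), (3879876, [1217216]),
   (4081428, [1217216]), (4232592, [1217216]), (4263600, [1217216]), (4408950, [1217216]), (4434144, [1217216]),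
   (4526522, [1217216]), (4837248, [1217216]), (4938024, [1217216]), (5038800, [1217216]), (5542680, [1217216]),
   (5651208, [1217216]), (5668650, [1217216]), (5819814, [1217216]), (5878600, [1217216]), (6267492, [1217216]),
   (6348888, [1217216]), (6466460, [1217216]), (6651216, [1217216]), (6802380, [1217216]), (6837264, [1217216]),
   (6928350, [1217216]), (7407036, [1217216]), (7674480, [1217216]), (7759752, [1217216]), (8162856, [1217216]),
   (8314020, [1217216]), (8356656, [1217216]), (8465184, [1217216]), (8868288, [1217216]), (8953560, [1217216]),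
   (9523332, [1217216]), (9593100, [1217216]), (9699690, [1217216]), (9876048, [1217216]), (9976824, [1217216]),
   (10203570, [1217216]), (10581480, [1217216]), (11110554, [1217216]), (11286912, [1217216]),
   (11639628, [1217216]), (12345060, [1217216]), (12597000, [1217216]), (13302432, [1217216]),
   (14244300, [1217216]), (14284998, [1217216]), (14325696, [1217216]), (14511744, [1217216]),
   (14814072, [1217216]), (14965236, [1217216]), (15116400, [1217216]), (15261750, [1217216]),
   (15519504, [1217216]), (15872220, [1217216]), (15988500, [1217216]), (16116408, [1217216]),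
   (16325712, [1217216]), (16628040, [1217216]), (17459442, [1217216]), (17635800, [1217216]),
   (17736576, [1217216]), (18106088, [1217216]), (18366426, [1217216]), (18653250, [1217216]),
   (19399380, [1217216]), (21976920, [1217216]), (22447854, [1217216]), (23094500, [1217216]),
   (23279256, [1217216]), (23814144, [1217216]), (24186240, [1217216]), (24418800, [1217216]),
   (24942060, [1217216]), (26453700, [1217216]), (26604864, [1217216]), (27713400, [1217216]),
   (27855520, [1217216]), (28569996, [1217216]), (28651392, [1217216]), (29106176, [1217216]),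
   (29393000, [1217216]), (29930472, [1217216]), (31039008, [1217216]), (31081644, [1217216]),
   (31744440, [1217216]), (33331662, [1217216]), (33426624, [1217216]), (34398208, [1217216]),
   (34918884, [1217216]), (36732852, [1217216]), (40738698, [1217216]), (41570100, [1217216]),
   (42325920, [1217216]), (44089500, [1217216]), (47006190, [1217216]), (52907400, [1217216]),
   (58198140, [1217216]), (64664600, [1217216])]

/-- witnesses for `A_19` -/
def wit19 : List (ℕ × List ℕ) :=
  [(1217216, [10, 3, 1, 1, 1, 1, 1, 1]), (5985, [15, 2, 2]), (24310, [10, 1, 1, 1, 1, 1, 1, 1, 1, 1])]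

end Cfsg.Agent.H245.AN
end

-- part: H245/AN/Small
section
/-!
# S4766, piece B10: groups with the character degrees of `A_n`, `5 ≤ n < 20`: the derived subgroup is perfect (helper245)

`small` : from the hypotheses A1, A2 (`HypOne`, `HypTwo`). `mem_list`: the degrees of `A_n` lie in the list of the
certificate.
-/

set_option autoImplicit false

namespace Cfsg.Agent.H245.AN

open Cfsg Cfsg.Agent.H691.AN Cfsg.Agent.H704

universe u

theorem primes_le {p : ℕ} (hp : p.Prime) {n : ℕ} (hn : n < 20) (h : p ≤ n) : p ∈ [2, 3, 5, 7, 11, 13, 17, 19] := by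
  have : ∀ q ≤ 19, q.Prime → q ∈ [2, 3, 5, 7, 11, 13, 17, 19] := by decide +kernel
  exact this p (by omega) hp

theorem go5 : go (partChk 120 (1 :: cert5.map (·.1))) (5 + 1) 5 1 [] 1 = true := go_of_fast (by decide +kernel)
theorem witc5 : witChk 5 120 wit5 = true := by decide +kernel
theorem chk5 : chkB (1 :: cert5.map (·.1)) [2, 3, 5, 7, 11, 13, 17, 19] (wit5.map (·.1)) cert5 = true := by
  decide +kernel
theorem fac5 : Nat.factorial 5 = 120 := by decide +kernel

theorem go6 : go (partChk 720 (1 :: cert6.map (·.1))) (6 + 1) 6 1 [] 1 = true := go_of_fast (by decide +kernel)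
theorem witc6 : witChk 6 720 wit6 = true := by decide +kernel
theorem chk6 : chkB (1 :: cert6.map (·.1)) [2, 3, 5, 7, 11, 13, 17, 19] (wit6.map (·.1)) cert6 = true := by
  decide +kernel
theorem fac6 : Nat.factorial 6 = 720 := by decide +kernel

theorem go7 : go (partChk 5040 (1 :: cert7.map (·.1))) (7 + 1) 7 1 [] 1 = true := go_of_fast (by decide +kernel)
theorem witc7 : witChk 7 5040 wit7 = true := by decide +kernel
theorem chk7 : chkB (1 :: cert7.map (·.1)) [2, 3, 5, 7, 11, 13, 17, 19] (wit7.map (·.1)) cert7 = true := by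
  decide +kernel
theorem fac7 : Nat.factorial 7 = 5040 := by decide +kernel

theorem go8 : go (partChk 40320 (1 :: cert8.map (·.1))) (8 + 1) 8 1 [] 1 = true := go_of_fast (by decide +kernel)
theorem witc8 : witChk 8 40320 wit8 = true := by decide +kernel
theorem chk8 : chkB (1 :: cert8.map (·.1)) [2, 3, 5, 7, 11, 13, 17, 19] (wit8.map (·.1)) cert8 = true := by
  decide +kernel
theorem fac8 : Nat.factorial 8 = 40320 := by decide +kernel

theorem go9 : go (partChk 362880 (1 :: cert9.map (·.1))) (9 + 1) 9 1 [] 1 = true := go_of_fast (by decide +kernel)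
theorem witc9 : witChk 9 362880 wit9 = true := by decide +kernel
theorem chk9 : chkB (1 :: cert9.map (·.1)) [2, 3, 5, 7, 11, 13, 17, 19] (wit9.map (·.1)) cert9 = true := by
  decide +kernel
theorem fac9 : Nat.factorial 9 = 362880 := by decide +kernel

theorem go10 : go (partChk 3628800 (1 :: cert10.map (·.1))) (10 + 1) 10 1 [] 1 = true := go_of_fast (by decide +kernel)
theorem witc10 : witChk 10 3628800 wit10 = true := by decide +kernel
theorem chk10 : chkB (1 :: cert10.map (·.1)) [2, 3, 5, 7, 11, 13, 17, 19] (wit10.map (·.1)) cert10 = true := by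
  decide +kernel
theorem fac10 : Nat.factorial 10 = 3628800 := by decide +kernel

theorem go11 : go (partChk 39916800 (1 :: cert11.map (·.1))) (11 + 1) 11 1 [] 1 = true := go_of_fast (by decide +kernel)
theorem witc11 : witChk 11 39916800 wit11 = true := by decide +kernel
theorem chk11 : chkB (1 :: cert11.map (·.1)) [2, 3, 5, 7, 11, 13, 17, 19] (wit11.map (·.1)) cert11 = true := by
  decide +kernel
theorem fac11 : Nat.factorial 11 = 39916800 := by decide +kernel

theorem go12 : go (partChk 479001600 (1 :: cert12.map (·.1))) (12 + 1) 12 1 [] 1 = true := go_of_fast (by decide +kernel)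
theorem witc12 : witChk 12 479001600 wit12 = true := by decide +kernel
theorem chk12 : chkB (1 :: cert12.map (·.1)) [2, 3, 5, 7, 11, 13, 17, 19] (wit12.map (·.1)) cert12 = true := by
  decide +kernel
theorem fac12 : Nat.factorial 12 = 479001600 := by decide +kernel

theorem go13 : go (partChk 6227020800 (1 :: cert13.map (·.1))) (13 + 1) 13 1 [] 1 = true := go_of_fast (by decide +kernel)
theorem witc13 : witChk 13 6227020800 wit13 = true := by decide +kernel
theorem chk13 : chkB (1 :: cert13.map (·.1)) [2, 3, 5, 7, 11, 13, 17, 19] (wit13.map (·.1)) cert13 = true := by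
  decide +kernel
theorem fac13 : Nat.factorial 13 = 6227020800 := by decide +kernel

theorem go14 : go (partChk 87178291200 (1 :: cert14.map (·.1))) (14 + 1) 14 1 [] 1 = true := go_of_fast (by decide +kernel)
theorem witc14 : witChk 14 87178291200 wit14 = true := by decide +kernel
theorem chk14 : chkB (1 :: cert14.map (·.1)) [2, 3, 5, 7, 11, 13, 17, 19] (wit14.map (·.1)) cert14 = true := by
  decide +kernel
theorem fac14 : Nat.factorial 14 = 87178291200 := by decide +kernel

theorem go15 : go (partChk 1307674368000 (1 :: cert15.map (·.1))) (15 + 1) 15 1 [] 1 = true := go_of_fast (by decide +kernel)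
theorem witc15 : witChk 15 1307674368000 wit15 = true := by decide +kernel
theorem chk15 : chkB (1 :: cert15.map (·.1)) [2, 3, 5, 7, 11, 13, 17, 19] (wit15.map (·.1)) cert15 = true := by
  decide +kernel
theorem fac15 : Nat.factorial 15 = 1307674368000 := by decide +kernel

theorem go16 : go (partChk 20922789888000 (1 :: cert16.map (·.1))) (16 + 1) 16 1 [] 1 = true := go_of_fast (by decide +kernel)
theorem witc16 : witChk 16 20922789888000 wit16 = true := by decide +kernel
theorem chk16 : chkB (1 :: cert16.map (·.1)) [2, 3, 5, 7, 11, 13, 17, 19] (wit16.map (·.1)) cert16 = true := by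
  decide +kernel
theorem fac16 : Nat.factorial 16 = 20922789888000 := by decide +kernel

theorem go17 : go (partChk 355687428096000 (1 :: cert17.map (·.1))) (17 + 1) 17 1 [] 1 = true := go_of_fast (by decide +kernel)
theorem witc17 : witChk 17 355687428096000 wit17 = true := by decide +kernel
theorem chk17 : chkB (1 :: cert17.map (·.1)) [2, 3, 5, 7, 11, 13, 17, 19] (wit17.map (·.1)) cert17 = true := by
  decide +kernel
theorem fac17 : Nat.factorial 17 = 355687428096000 := by decide +kernel

theorem go18 : go (partChk 6402373705728000 (1 :: cert18.map (·.1))) (18 + 1) 18 1 [] 1 = true := go_of_fast (by decide +kernel)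
theorem witc18 : witChk 18 6402373705728000 wit18 = true := by decide +kernel
theorem chk18 : chkB (1 :: cert18.map (·.1)) [2, 3, 5, 7, 11, 13, 17, 19] (wit18.map (·.1)) cert18 = true := by
  decide +kernel
theorem fac18 : Nat.factorial 18 = 6402373705728000 := by decide +kernel

theorem go19 : go (partChk 121645100408832000 (1 :: cert19.map (·.1))) (19 + 1) 19 1 [] 1 = true := go_of_fast (by decide +kernel)
theorem witc19 : witChk 19 121645100408832000 wit19 = true := by decide +kernel
theorem chk19 : chkB (1 :: cert19.map (·.1)) [2, 3, 5, 7, 11, 13, 17, 19] (wit19.map (·.1)) cert19 = true := by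
  decide +kernel
theorem fac19 : Nat.factorial 19 = 121645100408832000 := by decide +kernel

/-- **B10 from A1 and A2**: a finite group with the character degrees of `A_n`, `5 ≤ n < 20`, has a perfect derived
subgroup. -/
theorem small {n : ℕ} (h5 : 5 ≤ n) (hn : n < 20) (a1 : HypOne n) (a2 : HypTwo n) {G : Type u} [Group G] [Finite G]
    (h : charDegrees G = D n) : ⁅commutator G, commutator G⁆ = commutator G := by
  have hP : ∀ p : ℕ, p.Prime → p ≤ n → p ∈ [2, 3, 5, 7, 11, 13, 17, 19] := fun p hp h1 => primes_le hp hn h1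
  interval_cases n
  · exact core' fac5 go5 witc5 chk5 hP a1 a2 h
  · exact core' fac6 go6 witc6 chk6 hP a1 a2 h
  · exact core' fac7 go7 witc7 chk7 hP a1 a2 h
  · exact core' fac8 go8 witc8 chk8 hP a1 a2 h
  · exact core' fac9 go9 witc9 chk9 hP a1 a2 h
  · exact core' fac10 go10 witc10 chk10 hP a1 a2 h
  · exact core' fac11 go11 witc11 chk11 hP a1 a2 h
  · exact core' fac12 go12 witc12 chk12 hP a1 a2 h
  · exact core' fac13 go13 witc13 chk13 hP a1 a2 h
  · exact core' fac14 go14 witc14 chk14 hP a1 a2 h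
  · exact core' fac15 go15 witc15 chk15 hP a1 a2 h
  · exact core' fac16 go16 witc16 chk16 hP a1 a2 h
  · exact core' fac17 go17 witc17 chk17 hP a1 a2 h
  · exact core' fac18 go18 witc18 chk18 hP a1 a2 h
  · exact core' fac19 go19 witc19 chk19 hP a1 a2 h

end Cfsg.Agent.H245.AN
end

-- part: H245/AN/BTen
section
/-!
# S4766, piece B10 (helper245)
-/

set_option autoImplicit false

namespace Cfsg.Agent.H245.AN

open Cfsg Cfsg.Agent.H691.AN Cfsg.Agent.H704

universe u

/-- **B10**: a finite group with the character degrees of `A_n`, `5 ≤ n < 20`, has a perfect derived subgroup. -/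
theorem b10_small {n : ℕ} (h5 : 5 ≤ n) (hn : n < 20) {G : Type u} [Group G] [Finite G]
    (h : charDegrees G = D n) : ⁅commutator G, commutator G⁆ = commutator G :=
  small h5 hn (fun _ hl _ hd => Cfsg.Agent.H89.AN.a1_mem (by omega) hl hd)
    (fun _ hd => Cfsg.Agent.H89.AN.a2_part (by omega) hd) h

end Cfsg.Agent.H245.AN
end

-- part: H961/AN/B9Num
section
/-!
# S4766, piece B9: numerics (helper961)

`n = x + 20`, `m = n - 1 = x + 19`.
-/

set_option autoImplicit false

namespace Cfsg.Agent.H961.AN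

/-- the low degrees of `A_n`, `n = x + 20` -/
def Low (x d : ℕ) : Prop :=
  d = 1 ∨ d = x + 19 ∨ 2 * d = (x + 20) * (x + 17) ∨ 2 * d = (x + 19) * (x + 18) ∨
    6 * d = (x + 20) * (x + 19) * (x + 15) ∨ 3 * d = (x + 20) * (x + 18) * (x + 16) ∨
    6 * d = (x + 19) * (x + 18) * (x + 17) ∨ (x + 19) ^ 3 < 2 * d

theorem no_mul_u {x d : ℕ} (hd : 2 * d = (x + 19) * (x + 20) * (x + 17)) (h : Low x d) : False := by
  have h1 := Nat.zero_le (x ^ 3)
  have h2 := Nat.zero_le (x ^ 2)
  have h3 := Nat.zero_le x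
  rcases h with h | h | h | h | h | h | h | h <;> linarith only [hd, h, h1, h2, h3]

theorem no_mul_u' {x d : ℕ} (hd : 4 * d = (x + 19) * (x + 20) * (x + 17)) (h : Low x d) : False := by
  have h1 := Nat.zero_le (x ^ 3)
  have h2 := Nat.zero_le (x ^ 2)
  have h3 := Nat.zero_le x
  rcases h with h | h | h | h | h | h | h | h <;> linarith only [hd, h, h1, h2, h3]

theorem no_mul_v {x d k : ℕ} (hk : k ∣ x + 19) (hk2 : 2 ≤ k) (hd : 2 * d = k * (x + 19) * (x + 18))
    (h : Low x d) : False := by
  have h1 := Nat.zero_le (x ^ 3)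
  have h2 := Nat.zero_le (x ^ 2)
  have hkm : k ≤ x + 19 := Nat.le_of_dvd (by omega) hk
  have hge : 2 * ((x + 19) * (x + 18)) ≤ k * (x + 19) * (x + 18) := by
    calc 2 * ((x + 19) * (x + 18)) ≤ k * ((x + 19) * (x + 18)) := Nat.mul_le_mul_right _ hk2
      _ = _ := by ring
  have hle : k * (x + 19) * (x + 18) ≤ (x + 19) * (x + 19) * (x + 18) :=
    Nat.mul_le_mul_right _ (Nat.mul_le_mul_right _ hkm)
  rcases h with h | h | h | h | h | h | h | h
  · nlinarith only [hd, hge, h]
  · nlinarith only [hd, hge, h]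
  · linarith only [hd, hge, h]
  · nlinarith only [hd, hge, h]
  · have h3 : (3 * k * (x + 18)) * (x + 19) = ((x + 20) * (x + 15)) * (x + 19) := by linarith only [hd, h]
    have h4 := Nat.eq_of_mul_eq_mul_right (by omega) h3
    have h5 : (x + 18) * (3 * k + 1) + 6 = (x + 18) * (x + 18) := by linarith only [h4]
    have h6 : x + 18 ∣ 6 := (Nat.dvd_add_right (Dvd.intro _ rfl)).1 (h5 ▸ Dvd.intro _ rfl)
    have := Nat.le_of_dvd (by norm_num) h6
    omega
  · have h3 : (3 * k * (x + 19)) * (x + 18) = (2 * ((x + 20) * (x + 16))) * (x + 18) := by linarith only [hd, h]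
    have h4 := Nat.eq_of_mul_eq_mul_right (by omega) h3
    have h5 : (x + 19) * (3 * k + 4) + 6 = (x + 19) * (2 * (x + 19)) := by linarith only [h4]
    have h6 : x + 19 ∣ 6 := (Nat.dvd_add_right (Dvd.intro _ rfl)).1 (h5 ▸ Dvd.intro _ rfl)
    have := Nat.le_of_dvd (by norm_num) h6
    omega
  · have h3 : (3 * k) * ((x + 19) * (x + 18)) = (x + 17) * ((x + 19) * (x + 18)) := by linarith only [hd, h]
    have h4 := Nat.eq_of_mul_eq_mul_right (by positivity) h3
    have h5 : k ∣ 2 := by
      have h6 : x + 19 = k * 3 + 2 := by (clear * - h4; omega)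
      exact (Nat.dvd_add_right (Dvd.intro _ rfl)).1 (h6 ▸ hk)
    have := Nat.le_of_dvd (by norm_num) h5
    omega
  · nlinarith only [hd, hle, h]

/-- `2 w A = 2 u`, `A ≡ 1` modulo `m`, `m` odd -/
theorem no_one {x w A : ℕ} (hA : 1 < A) (hm : x + 19 ∣ A - 1) (h : 2 * (w * A) = (x + 20) * (x + 17))
    (hodd : Odd (x + 19)) : False := by
  obtain ⟨j, hj⟩ := hm
  have hj0 : 1 ≤ j := by
    rcases Nat.eq_zero_or_pos j with h0 | h0
    · rw [h0] at hj; omega
    · exact h0
  have hA' : A = 1 + (x + 19) * j := by omega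
  subst hA'
  have h1 : (x + 19) * (2 * w * j + 1) + (2 * w + 2) = (x + 19) * (x + 19) := by linarith only [h]
  have h2 : x + 19 ∣ 2 * w + 2 := (Nat.dvd_add_right (Dvd.intro _ rfl)).1 (h1 ▸ Dvd.intro _ rfl)
  have h3 : x + 19 ≤ (x + 19) * j := Nat.le_mul_of_pos_right _ hj0
  have h4 : 2 * w * (x + 20) ≤ (x + 17) * (x + 20) := by
    calc 2 * w * (x + 20) ≤ 2 * w * (1 + (x + 19) * j) := Nat.mul_le_mul_left _ (by omega)
      _ = 2 * (w * (1 + (x + 19) * j)) := by ring
      _ = _ := by rw [h]; ring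
  have h5 : 2 * w ≤ x + 17 := Nat.le_of_mul_le_mul_right h4 (by omega)
  have h6 := Nat.le_of_dvd (by omega) h2
  have h7 : 2 * w + 2 = x + 19 := by omega
  rw [← h7] at hodd
  exact (Nat.not_even_iff_odd.2 hodd) ⟨w + 1, by ring⟩

/-- `2 w A = 2 u`, `A ≡ -1` modulo `m` -/
theorem eq_neg_one {x w A : ℕ} (hm : x + 19 ∣ A + 1) (h : 2 * (w * A) = (x + 20) * (x + 17)) : w = 1 := by
  obtain ⟨j, hj⟩ := hm
  have hj0 : 1 ≤ j := by
    rcases Nat.eq_zero_or_pos j with h0 | h0
    · rw [h0] at hj; omega
    · exact h0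
  have hw : 1 ≤ w := by
    rcases Nat.eq_zero_or_pos w with h0 | h0
    · rw [h0] at h; nlinarith
    · exact h0
  have h3 : x + 19 ≤ (x + 19) * j := Nat.le_mul_of_pos_right _ hj0
  have h4 : 2 * w * (x + 18) ≤ (x + 20) * (x + 17) := by
    calc 2 * w * (x + 18) ≤ 2 * w * A := Nat.mul_le_mul_left _ (by omega)
      _ = 2 * (w * A) := by ring
      _ = _ := h
  have h5 : 2 * w < x + 19 := by
    by_contra hcon
    push Not at hcon
    have : (x + 19) * (x + 18) ≤ 2 * w * (x + 18) := Nat.mul_le_mul_right _ hcon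
    linarith only [h4, this]
  obtain ⟨w', rfl⟩ : ∃ w', w = w' + 1 := ⟨w - 1, by omega⟩
  have h6 : 2 * ((w' + 1) * (A + 1)) = (x + 20) * (x + 17) + 2 * (w' + 1) := by
    rw [← h]; ring
  rw [hj] at h6
  have h7 : (x + 19) * (2 * (w' + 1) * j + 1) = (x + 19) * (x + 19) + 2 * w' := by linarith only [h6]
  have h8 : x + 19 ∣ 2 * w' := (Nat.dvd_add_right (Dvd.intro _ rfl)).1 (h7 ▸ Dvd.intro _ rfl)
  rcases Nat.eq_zero_or_pos w' with h0 | h0
  · omega
  · have := Nat.le_of_dvd (by omega) h8
    omega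

end Cfsg.Agent.H961.AN
end

-- part: H961/AN/B9
section
/-!
# S4766, piece B9 (helper961)

`Frob.dvd` : `|G : M|` divides `q ^ a - 1`; `b9_large_of` : no solvable group has the degrees of `A_n`, `n ≥ 20`
(from the pieces A3 - A6 and B4 - B8 as hypotheses).
-/

set_option autoImplicit false

namespace Cfsg.Agent.H961.AN

open Cfsg Cfsg.Agent.H691.AN Cfsg.Agent.H424.DegTools

universe u

section

variable {G : Type u} [Group G] [Finite G] {N M : Subgroup G} {q a : ℕ}

/-- `G` acts on the nontrivial elements of `M / N` with all orbits of size `|G : M|` -/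
theorem frob_dvd (hF : Frob G N M q a) : M.index ∣ q ^ a - 1 := by
  classical
  have := hF.normN
  have := hF.normM
  set π := QuotientGroup.mk' N with hπ
  set Mq : Subgroup (G ⧸ N) := M.map π with hMq
  have hMqn : Mq.Normal := Subgroup.Normal.map ‹M.Normal› π (QuotientGroup.mk'_surjective N)
  let X := {x : G ⧸ N // x ∈ Mq ∧ x ≠ 1}
  let act : MulAction G X :=
    { smul := fun g x => ⟨π g * x.1 * (π g)⁻¹, hMqn.conj_mem _ x.2.1 _, by
        intro h
        apply x.2.2
        have := mul_inv_eq_one.1 h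
        simpa only [ne_eq, mul_eq_left] using this⟩
      one_smul := fun x => by
        apply Subtype.ext
        show π 1 * x.1 * (π 1)⁻¹ = x.1
        simp only [map_one, ne_eq, one_mul, inv_one, mul_one]
      mul_smul := fun g h x => by
        apply Subtype.ext
        show π (g * h) * x.1 * (π (g * h))⁻¹ = π g * (π h * x.1 * (π h)⁻¹) * (π g)⁻¹
        simp only [map_mul, ne_eq, mul_assoc, mul_inv_rev] }
  have hsm : ∀ (g : G) (x : X), (g • x).1 = π g * x.1 * (π g)⁻¹ := fun _ _ => rfl
  have hst : ∀ x : X, MulAction.stabilizer G x = M := by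
    intro x
    obtain ⟨⟨y, hy, hyx⟩, hx1⟩ := x.2
    ext g
    rw [MulAction.mem_stabilizer_iff, Subtype.ext_iff, hsm, ← hyx]
    have e : π g * π y * (π g)⁻¹ = π y ↔ g * y * g⁻¹ * y⁻¹ ∈ N := by
      rw [← QuotientGroup.eq_one_iff (N := N)]
      have e1 : ((g * y * g⁻¹ * y⁻¹ : G) : G ⧸ N) = π g * π y * (π g)⁻¹ * (π y)⁻¹ := by
        simp only [QuotientGroup.mk_mul, QuotientGroup.mk_inv, hπ, QuotientGroup.mk'_apply]
      rw [e1, mul_inv_eq_one]
    rw [e]
    constructor
    · intro h
      by_contra hg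
      have := hF.free g hg y hy h
      apply hx1
      rw [← hyx]
      exact (QuotientGroup.eq_one_iff y).2 this
    · intro hg
      exact hF.abel (Subgroup.commutator_mem_commutator hg hy)
  have hcard : Nat.card Mq = q ^ a := by
    rw [← hF.card, hMq, ← Subgroup.relIndex_ker, hπ, QuotientGroup.ker_mk']
  have hX : Nat.card X = q ^ a - 1 := by
    have h1 : Nat.card X = Set.ncard ((Mq : Set (G ⧸ N)) \ {1}) := by
      rw [← Nat.card_coe_set_eq]
      exact Nat.card_congr (Equiv.refl _)
    rw [h1, Set.ncard_sdiff_singleton_of_mem Mq.one_mem, ← hcard]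
    rfl
  rw [← hX]
  have := Fintype.ofFinite G
  have := Fintype.ofFinite X
  have : Fintype (MulAction.orbitRel.Quotient G X) := Fintype.ofFinite _
  have key := MulAction.card_eq_sum_card_group_div_card_stabilizer G X
  rw [Nat.card_eq_fintype_card, key]
  refine Finset.dvd_sum fun ω _ => ?_
  have h1 : Fintype.card (MulAction.stabilizer G ω.out) = Nat.card M := by
    rw [← Nat.card_eq_fintype_card, hst]
  rw [h1, ← Nat.card_eq_fintype_card, ← M.index_mul_card, Nat.mul_div_cancel _ Nat.card_pos]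

theorem frob_le (hF : Frob G N M q a) : M.index + 1 ≤ q ^ a := by
  have h1 := frob_dvd hF
  have h2 : 1 < q ^ a := Nat.one_lt_pow hF.pos.ne' hF.prime.one_lt
  have := Nat.le_of_dvd (by omega) h1
  omega

end

/-- **B9** (pieces A3 - A6, B4 - B8 as hypotheses) -/
theorem b9_large_of
    (a3 : ∀ {n : ℕ}, 20 ≤ n → ∀ {d : ℕ}, d ∈ D n →
      d = 1 ∨ d = n - 1 ∨ 2 * d = n * (n - 3) ∨ 2 * d = (n - 1) * (n - 2) ∨ 6 * d = n * (n - 1) * (n - 5) ∨
      3 * d = n * (n - 2) * (n - 4) ∨ 6 * d = (n - 1) * (n - 2) * (n - 3) ∨ (n - 1) ^ 3 < 2 * d)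
    (a4 : ∀ {n : ℕ}, 7 ≤ n → n - 1 ∈ D n ∧ n * (n - 3) / 2 ∈ D n ∧ (n - 1) * (n - 2) / 2 ∈ D n)
    (a5 : ∀ {n : ℕ}, 10 ≤ n → ∀ {p k : ℕ}, p.Prime → 0 < k → p ^ k ∈ D n → p ^ k = n - 1)
    (a6 : ∀ {n : ℕ}, 7 ≤ n → ∀ {d : ℕ}, d ∈ D n → d = 1 ∨ n - 1 ≤ d)
    (b4 : ∀ {n : ℕ}, 20 ≤ n → ∀ {G : Type u} [Group G] [Finite G] [Group.IsSolvable G], charDegrees G = D n →
      ∃ A : Subgroup G, A.Normal ∧ commutator G ≤ A ∧ A.index = n - 1 ∧
      ∃ χ : G → ℂ, IsIrrCharacter G χ ∧ χ 1 = (n - 1 : ℕ) ∧ ∀ g ∈ ⁅A, A⁆, χ g = χ 1)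
    (b5 : ∀ {n : ℕ}, 20 ≤ n → ∀ {G : Type u} [Group G] [Finite G], charDegrees G = D n → ∀ (K : Subgroup G)
      [K.Normal] {q : ℕ}, q.Prime → IsPGroup q (G ⧸ K) → commutator G ≤ K)
    (b6 : ∀ {G : Type u} [Group G] [Finite G] {m : ℕ}, 1 < m → (∀ d ∈ charDegrees G, d ∣ m → d = 1 ∨ d = m) →
      (∀ (q : ℕ) (K : Subgroup G) [K.Normal], q.Prime → IsPGroup q (G ⧸ K) → commutator G ≤ K) →
      ∀ (A : Subgroup G), A.Normal → commutator G ≤ A → A.index = m →
      (∃ χ : G → ℂ, IsIrrCharacter G χ ∧ χ 1 = (m : ℕ) ∧ ∀ g ∈ ⁅A, A⁆, χ g = χ 1) →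
      ∃ (N : Subgroup G) (q a : ℕ), Frob G N A q a)
    (b7 : ∀ {G : Type u} [Group G] [Finite G] {N M : Subgroup G} {q a : ℕ}, Frob G N M q a →
      ∀ {θ : M → ℂ}, IsIrrCharacter M θ → ∀ {t : ℕ}, θ 1 = t → ¬ q ∣ t → M.index * t ∈ charDegrees G)
    (b8 : ∀ {G : Type u} [Group G] [Finite G] {N M : Subgroup G} {q a : ℕ}, Frob G N M q a → ∀ {d : ℕ},
      d ∈ charDegrees G → d.Coprime M.index →
      M.index * d ∈ charDegrees G ∨ q ^ a ∣ d ∨ ∃ e : ℕ, e ^ 2 = q ^ a ∧ e ∣ d ∧ (M.index ∣ e - 1 ∨ M.index ∣ e + 1))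
    {n : ℕ} (hn : 20 ≤ n) {G : Type u} [Group G] [Finite G] [Group.IsSolvable G]
    (h : charDegrees G = D n) : False := by
  obtain ⟨x, rfl⟩ : ∃ x, n = x + 20 := ⟨n - 20, by omega⟩
  have low : ∀ {d : ℕ}, d ∈ charDegrees G → Low x d := by
    intro d hd
    have := a3 hn (h ▸ hd)
    simpa only [Low, show x + 20 - 1 = x + 19 by omega, show x + 20 - 2 = x + 18 by omega,
      show x + 20 - 3 = x + 17 by omega, show x + 20 - 4 = x + 16 by omega, show x + 20 - 5 = x + 15 by omega]
      using this
  obtain ⟨A, hAn, hcA, hAi, hχ⟩ := b4 hn h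
  rw [show x + 20 - 1 = x + 19 by omega] at hAi hχ
  obtain ⟨N, q, a, hF⟩ := b6 (m := x + 19) (by omega) (fun d hd hdm => by
      rcases a6 (by omega : 7 ≤ x + 20) (h ▸ hd) with h1 | h1
      · exact Or.inl h1
      · have := Nat.le_of_dvd (by omega) hdm
        exact Or.inr (by omega)) (fun q K _ hq hK => b5 hn h K hq hK) A hAn hcA hAi hχ
  obtain ⟨-, hu, hv⟩ := a4 (by omega : 7 ≤ x + 20)
  rw [← h] at hu hv
  set u := (x + 20) * (x + 20 - 3) / 2 with hu0
  set v := (x + 20 - 1) * (x + 20 - 2) / 2 with hv0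
  have hu2 : 2 * u = (x + 20) * (x + 17) := by
    rw [hu0, show x + 20 - 3 = x + 17 by (clear * - hn hAi; omega)]
    refine Nat.mul_div_cancel' ?_
    rcases Nat.even_or_odd x with ⟨c, hc⟩ | ⟨c, hc⟩
    · exact Dvd.dvd.mul_right ⟨c + 10, by omega⟩ _
    · exact Dvd.dvd.mul_left ⟨c + 9, by omega⟩ _
  have hv2 : 2 * v = (x + 19) * (x + 18) := by
    rw [hv0, show x + 20 - 1 = x + 19 by omega, show x + 20 - 2 = x + 18 by omega]
    refine Nat.mul_div_cancel' ?_
    rcases Nat.even_or_odd x with ⟨c, hc⟩ | ⟨c, hc⟩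
    · exact Dvd.dvd.mul_left ⟨c + 9, by omega⟩ _
    · exact Dvd.dvd.mul_right ⟨c + 10, by omega⟩ _
  have huv : v = u + 1 := by linarith only [hu2, hv2]
  clear_value u v
  have hmu : 2 * ((x + 19) * u) = (x + 19) * (x + 20) * (x + 17) := by
    calc 2 * ((x + 19) * u) = (x + 19) * (2 * u) := by ring
      _ = _ := by rw [hu2]; ring
  have hqa := frob_dvd hF
  have hle := frob_le hF
  rw [hAi] at hqa hle
  rcases Nat.even_or_odd (x + 19) with hev | hodd
  · -- `n` odd
    have key : ∀ {d : ℕ}, d ∈ charDegrees G → (∀ t, t ∣ x + 19 → t ∣ d → ∀ c, c * t = d →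
        (x + 19) * c ∉ charDegrees G) → q ∣ d := by
      intro d hd hno
      obtain ⟨c, hc, hcd, hci⟩ := clifford_down A hd
      rw [hAi] at hci
      obtain ⟨θ, hθ, hθ1⟩ := mem_charDegrees.1 hc
      by_cases hqc : q ∣ c
      · exact hqc.trans hcd
      · exfalso
        have h1 := b7 hF hθ hθ1 hqc
        rw [hAi] at h1
        exact hno (d / c) hci (Nat.div_dvd_of_dvd hcd) c (Nat.mul_div_cancel' hcd) h1
    have hqu : q ∣ u := by
      refine key hu fun t ht1 ht2 c hc hmem => ?_
      have ht3 : t ∣ 2 := by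
        have h1 : t ∣ 2 * u := Dvd.dvd.mul_left ht2 2
        rw [hu2] at h1
        have h2 : (x + 19) * (x + 18) = (x + 20) * (x + 17) + 2 := by ring
        exact (Nat.dvd_add_right h1).1 (h2 ▸ Dvd.dvd.mul_right ht1 _)
      rcases (Nat.dvd_prime Nat.prime_two).1 ht3 with rfl | rfl
      · refine no_mul_u ?_ (low hmem)
        rw [mul_one] at hc
        rw [hc]
        exact hmu
      · refine no_mul_u' ?_ (low hmem)
        nlinarith only [hmu, hc]
    have hqv : q ∣ v := by
      refine key hv fun t ht1 ht2 c hc hmem => ?_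
      obtain ⟨k, hk⟩ := ht1
      refine no_mul_v (k := k) ⟨t, by rw [hk, mul_comm]⟩ ?_ ?_ (low hmem)
      · by_contra hlt
        have hk1 : k = 1 := by
          rcases Nat.eq_zero_or_pos k with h0 | h0
          · rw [h0] at hk; omega
          · omega
        rw [hk1, mul_one] at hk
        rw [← hk] at hc
        -- `2 c = x + 18`
        have h1 : 2 * c * (x + 19) = (x + 18) * (x + 19) := by linarith only [hv2, hc]
        have h2 := Nat.eq_of_mul_eq_mul_right (by omega) h1
        obtain ⟨c', hc'⟩ := hev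
        omega
      · have ht0 : 0 < t := by
          rcases Nat.eq_zero_or_pos t with h0 | h0
          · rw [h0] at hk; omega
          · exact h0
        have h1 : 2 * (c * t) = (k * (x + 18)) * t := by
          rw [hc, hv2, hk]; ring
        have h2 : 2 * c = k * (x + 18) := by
          apply Nat.eq_of_mul_eq_mul_right ht0
          linarith only [h1]
        calc 2 * ((x + 19) * c) = (x + 19) * (2 * c) := by ring
          _ = _ := by rw [h2]; ring
    rw [huv] at hqv
    have := (Nat.dvd_add_right hqu).1 hqv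
    exact hF.prime.one_lt.ne' (Nat.dvd_one.1 this)
  · -- `n` even
    have hcop : u.Coprime A.index := by
      rw [hAi]
      have h1 : (2 * u).Coprime (x + 19) := by
        rw [Nat.coprime_iff_gcd_eq_one]
        have h2 : (2 * u).gcd (x + 19) ∣ 2 := by
          have h3 : (x + 19) * (x + 18) = 2 * u + 2 := by rw [hu2]; ring
          exact (Nat.dvd_add_right (Nat.gcd_dvd_left _ _)).1 (h3 ▸ Dvd.dvd.mul_right (Nat.gcd_dvd_right _ _) _)
        rcases (Nat.dvd_prime Nat.prime_two).1 h2 with h3 | h3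
        · exact h3
        · exfalso
          have h4 : 2 ∣ x + 19 := h3 ▸ Nat.gcd_dvd_right _ _
          obtain ⟨c, hc⟩ := hodd
          omega
      exact Nat.Coprime.coprime_mul_left h1
    rcases b8 hF hu hcop with h1 | ⟨w, hw⟩ | ⟨e, he, ⟨w, hw⟩, h1 | h1⟩
    · rw [hAi] at h1
      exact no_mul_u hmu (low h1)
    · refine no_one (A := q ^ a) (w := w) (by omega) hqa ?_ hodd
      rw [mul_comm w, ← hw, hu2]
    · rw [hAi] at h1
      have he1 : 1 < e := by
        by_contra hlt
        have : e = 0 ∨ e = 1 := by omega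
        rcases this with rfl | rfl <;> simp at he <;> omega
      refine no_one (A := e) (w := w) he1 h1 ?_ hodd
      rw [mul_comm w, ← hw, hu2]
    · rw [hAi] at h1
      have hw1 : w = 1 := eq_neg_one (A := e) (w := w) h1 (by rw [mul_comm w, ← hw, hu2])
      rw [hw1, mul_one] at hw
      have he2 : e ∣ q ^ a := he ▸ dvd_pow_self e two_ne_zero
      obtain ⟨k, hk, hek⟩ := (Nat.dvd_prime_pow hF.prime).1 he2
      have hk0 : 0 < k := by
        rcases Nat.eq_zero_or_pos k with h0 | h0
        · rw [h0, pow_zero] at hek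
          rw [hek] at hw
          nlinarith only [hu2, hw]
        · exact h0
      have h3 := a5 (n := x + 20) (by omega) hF.prime hk0 (by rw [← hek, ← hw, ← h]; exact hu)
      rw [← hek, ← hw, show x + 20 - 1 = x + 19 by omega] at h3
      nlinarith only [hu2, h3]

end Cfsg.Agent.H961.AN
end

-- part: H456/AN/BFive
section
/-!
# S4766 B5: a quotient of prime power order of a group with the degrees of `A_n` is abelian (helper456)
-/

set_option autoImplicit false

namespace Cfsg.Agent.H456.AN

open Cfsg Cfsg.Agent.Characters Cfsg.Agent.Characters.Core Cfsg.Agent.H691.AN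

universe u

/-- the statement of A3 -/
def A3 : Prop := ∀ {n : ℕ}, 20 ≤ n → ∀ {d : ℕ}, d ∈ D n →
    d = 1 ∨ d = n - 1 ∨ 2 * d = n * (n - 3) ∨ 2 * d = (n - 1) * (n - 2) ∨ 6 * d = n * (n - 1) * (n - 5) ∨
      3 * d = n * (n - 2) * (n - 4) ∨ 6 * d = (n - 1) * (n - 2) * (n - 3) ∨ (n - 1) ^ 3 < 2 * d

/-- the statement of A4 -/
def A4 : Prop := ∀ {n : ℕ}, 7 ≤ n → n - 1 ∈ D n ∧ n * (n - 3) / 2 ∈ D n ∧ (n - 1) * (n - 2) / 2 ∈ D n

/-- the statement of A5 -/
def A5 : Prop := ∀ {n : ℕ}, 10 ≤ n → ∀ {p k : ℕ}, p.Prime → 0 < k → p ^ k ∈ D n → p ^ k = n - 1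

/-- A prime `q` with `q ^ b = n - 1` does not divide `n (n - 3) / 2`. -/
theorem not_dvd_half {n q b : ℕ} (hn : 20 ≤ n) (hq : q.Prime) (hb : q ^ b = n - 1) :
    ¬ q ∣ n * (n - 3) / 2 := by
  have hb0 : b ≠ 0 := by
    rintro rfl
    rw [pow_zero] at hb
    omega
  obtain ⟨k, rfl⟩ : ∃ k, n = k + 20 := ⟨n - 20, by omega⟩
  have h1 : k + 20 - 1 = k + 19 := by omega
  have h3 : k + 20 - 3 = k + 17 := by omega
  rw [h1] at hb
  rw [h3]
  have hqm : q ∣ k + 19 := hb ▸ dvd_pow_self q hb0
  intro hd
  have h2 : 2 ∣ (k + 20) * (k + 17) := by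
    rcases Nat.even_or_odd k with h | h
    · exact dvd_mul_of_dvd_left (by obtain ⟨c, rfl⟩ := h; exact ⟨c + 10, by ring⟩) _
    · exact dvd_mul_of_dvd_right (by obtain ⟨c, rfl⟩ := h; exact ⟨c + 9, by ring⟩) _
  obtain ⟨u, hu⟩ := h2
  rw [hu, Nat.mul_div_cancel_left _ (by norm_num)] at hd
  -- `2 u = (m + 1) (m - 2)`, so `q ∣ 2`
  have hq2 : q ∣ 2 := by
    have h4 : q ∣ (k + 20) * (k + 17) := hu ▸ dvd_mul_of_dvd_right hd 2
    have h5 : (k + 20) * (k + 17) + 2 = (k + 19) * (k + 18) := by ring
    have h6 : q ∣ (k + 20) * (k + 17) + 2 := h5 ▸ dvd_mul_of_dvd_left hqm _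
    exact (Nat.dvd_add_right h4).1 h6
  have hqe : q = 2 := (Nat.prime_dvd_prime_iff_eq hq Nat.prime_two).1 hq2
  subst hqe
  have hb2 : 2 ≤ b := by
    by_contra h
    have : b = 1 := by omega
    subst this
    omega
  obtain ⟨c, rfl⟩ : ∃ c, b = c + 2 := ⟨b - 2, by omega⟩
  have h7 : 4 * 2 ^ c = k + 19 := by rw [← hb]; ring
  -- `k + 19 = 4 t`, `2 u = (4 t + 1) (4 t - 2)`
  obtain ⟨t, ht⟩ : ∃ t, t = 2 ^ c := ⟨_, rfl⟩
  rw [← ht] at h7
  have ht1 : 1 ≤ t := by
    rw [ht]
    exact Nat.one_le_two_pow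
  obtain ⟨s, rfl⟩ : ∃ s, t = s + 1 := ⟨t - 1, by omega⟩
  have h8 : k + 20 = 4 * s + 5 := by (clear * - h1 h3 hqm h7; omega)
  have h9 : k + 17 = 4 * s + 2 := by (clear * - h1 h3 hqm h7; omega)
  rw [h8, h9] at hu
  obtain ⟨v, rfl⟩ := hd
  have h10 : 2 * ((4 * s + 5) * (2 * s + 1)) = 2 * (2 * v) := by rw [← hu]; ring
  have h11 : (4 * s + 5) * (2 * s + 1) = 2 * v := Nat.eq_of_mul_eq_mul_left (by norm_num) h10
  have h12 : (4 * s + 5) * (2 * s + 1) = 2 * (4 * s * s + 7 * s + 2) + 1 := by ring
  omega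

/-- `(n - 1) · n (n - 3) / 2` is not a degree of `A_n`. -/
theorem prod_not_mem (a3 : A3) {n : ℕ} (hn : 20 ≤ n) : ¬ (n - 1) * (n * (n - 3) / 2) ∈ D n := by
  intro h
  have h' := a3 hn h
  obtain ⟨k, rfl⟩ : ∃ k, n = k + 20 := ⟨n - 20, by omega⟩
  have e1 : k + 20 - 1 = k + 19 := by omega
  have e2 : k + 20 - 2 = k + 18 := by omega
  have e3 : k + 20 - 3 = k + 17 := by omega
  have e4 : k + 20 - 4 = k + 16 := by omega
  have e5 : k + 20 - 5 = k + 15 := by omega
  rw [e1, e2, e3, e4, e5] at h'
  have h2 : 2 ∣ (k + 20) * (k + 17) := by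
    rcases Nat.even_or_odd k with h | h
    · exact dvd_mul_of_dvd_left (by obtain ⟨c, rfl⟩ := h; exact ⟨c + 10, by ring⟩) _
    · exact dvd_mul_of_dvd_right (by obtain ⟨c, rfl⟩ := h; exact ⟨c + 9, by ring⟩) _
  obtain ⟨u, hu⟩ := h2
  rw [hu, Nat.mul_div_cancel_left _ (by norm_num)] at h'
  have hk : 0 ≤ k := Nat.zero_le k
  have hkk : 0 ≤ k * k := Nat.zero_le _
  have hu' : 2 * u = k * k + 37 * k + 340 := by rw [← hu]; ring
  have hm : 2 * ((k + 19) * u) = (k + 19) * (k * k + 37 * k + 340) := by rw [← hu']; ring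
  have hkkk : 0 ≤ k * k * k := Nat.zero_le _
  rcases h' with h | h | h | h | h | h | h | h <;> linarith only [h, hm, hu', hk, hkk, hkkk]

/-- **S4766, B5.** -/
theorem b5_pquot (a3 : A3) (a4 : A4) (a5 : A5) {n : ℕ} (hn : 20 ≤ n) {G : Type u} [Group G] [Finite G]
    (h : charDegrees G = D n) (K : Subgroup G) [K.Normal] {q : ℕ} (hq : q.Prime) (hK : IsPGroup q (G ⧸ K)) :
    commutator G ≤ K := by
  classical
  by_contra hcon
  have := Fintype.ofFinite G
  have := Fact.mk hq
  have hna : ¬ IsMulCommutative (G ⧸ K) := by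
    intro hc
    apply hcon
    rw [commutator_def, Subgroup.commutator_le]
    intro a _ b _
    rw [← QuotientGroup.ker_mk' K, MonoidHom.mem_ker, map_commutatorElement, commutatorElement_eq_one_iff_mul_comm]
    exact hc.is_comm.comm _ _
  obtain ⟨d, hd, hd1⟩ := Cfsg.Agent.H691.PDvd.exists_nonlinear hna
  obtain ⟨j, hj⟩ := (IsPGroup.iff_card.1 hK : ∃ j, Nat.card (G ⧸ K) = q ^ j)
  have hdc : d ∣ q ^ j := hj ▸ Cfsg.Agent.H681.DegBasic.dvd_card hd
  obtain ⟨b, -, rfl⟩ := (Nat.dvd_prime_pow hq).1 hdc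
  have hb : 0 < b := by
    rcases Nat.eq_zero_or_pos b with rfl | hb
    · exact (hd1 (pow_zero q)).elim
    · exact hb
  have hdG : q ^ b ∈ charDegrees G :=
    Cfsg.Agent.H681.DegBasic.charDegrees_comp (QuotientGroup.mk' K) (QuotientGroup.mk'_surjective K) hd
  have hqb : q ^ b = n - 1 := a5 (by omega) hq hb (h ▸ hdG)
  -- the degree `u`
  have hu : n * (n - 3) / 2 ∈ charDegrees G := by
    rw [h]
    exact (a4 (by omega : 7 ≤ n)).2.1
  obtain ⟨χ, hχ, hχ1⟩ := Cfsg.Agent.H681.DegBasic.mem_charDegrees.1 hu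
  have hcd : charDegree χ = n * (n - 3) / 2 := Cfsg.Agent.Blocks.Basic.charDegree_of_eq hχ1
  have hcop : Nat.Coprime K.index (charDegree χ) := by
    rw [Subgroup.index_eq_card, hj, hcd]
    exact Nat.Coprime.pow_left j ((Nat.Prime.coprime_iff_not_dvd hq).2 (not_dvd_half hn hq hqb))
  have hχK : IsIrrCharacter K (fun k : K => χ k) := Cfsg.Agent.H597.Degrees.isIrr_restrict_of_coprime K hχ hcop
  have hmem := Cfsg.Agent.H681.DegBasic.gallagher (QuotientGroup.mk' K) (QuotientGroup.mk'_surjective K) K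
    (fun k hk => (QuotientGroup.eq_one_iff k).2 hk) hχ hχK hχ1 hd
  rw [hqb, h] at hmem
  exact prod_not_mem a3 hn hmem

end Cfsg.Agent.H456.AN
end

-- part: H521/AN/B7
section
/-!
# S4766, piece B7: the degrees of `M` prime to `q` (helper521)

`b7_coprime` : if `M / N` is an elementary abelian chief factor of order `q ^ a` on which the abelian
group `G / M` acts freely, then for every degree `t` of `M` prime to `q` the number `|G : M| t` is a
degree of `G`.
-/

set_option autoImplicit false

namespace Cfsg.Agent.H521.AN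

open Cfsg
open Cfsg.Agent.Characters.Core
open Cfsg.Agent.OddOrderCharacters.NormalInduced Cfsg.Agent.OddOrderCharacters.IndRes
open Cfsg.Agent.OddOrderCharacters.InertiaAbelian
open Cfsg.Agent.H691.AN
open scoped ComplexConjugate

universe u

/-- An irreducible character of degree prime to `q` is not fixed by a nontrivial linear character of
exponent `q`. -/
theorem no_fix {H : Type u} [Group H] [Finite H] {θ : H → ℂ} (hθ : IsIrrCharacter H θ) {t q : ℕ}
    (ht : θ 1 = t) (hqp : q.Prime) (hq : ¬ q ∣ t) (ν : H →* ℂˣ) (hν : ∀ h, ν h ^ q = 1)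
    (hfix : ∀ h, (ν h : ℂ) * θ h = θ h) (h : H) : ν h = 1 := by
  classical
  have := Fintype.ofFinite H
  set K : Subgroup H := ν.ker with hK
  have := Fintype.ofFinite K
  have hidx : K.index ∣ q := by
    have : NeZero q := ⟨hqp.ne_zero⟩
    have h1 : ν.range ≤ rootsOfUnity q ℂ := by
      rintro _ ⟨x, rfl⟩
      exact (mem_rootsOfUnity q _).2 (hν x)
    have h2 := Subgroup.card_dvd_of_le h1
    rw [Complex.card_rootsOfUnity] at h2
    rwa [hK, Subgroup.index_ker]
  have hdeg : charDegree θ = t := Blocks.Basic.charDegree_of_eq ht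
  have hcop : Nat.Coprime K.index (charDegree θ) := by
    rw [hdeg]
    exact Nat.Coprime.coprime_dvd_left hidx ((Nat.Prime.coprime_iff_not_dvd hqp).2 hq)
  have hres := Cfsg.Agent.H597.Degrees.isIrr_restrict_of_coprime K hθ hcop
  have hoff : ∀ g : H, g ∉ K → θ g = 0 := by
    intro g hg
    have h1 := hfix g
    by_contra h0
    apply hg
    rw [hK, MonoidHom.mem_ker]
    apply Units.ext
    rw [Units.val_one]
    have h2 : ((ν g : ℂ) - 1) * θ g = 0 := by rw [sub_mul, h1, one_mul, sub_self]
    rcases mul_eq_zero.1 h2 with h3 | h3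
    · exact sub_eq_zero.1 h3
    · exact absurd h3 h0
  have e1 := classInner_irr_self hθ
  have e2 := classInner_irr_self hres
  unfold classInner at e1 e2
  have hsum : ∑ g : H, θ g * conj (θ g) = ∑ k : K, θ k * conj (θ k) := by
    rw [← Finset.sum_subtype (Finset.univ.filter (· ∈ K)) (fun x => by simp)
      (fun g => θ g * conj (θ g))]
    rw [Finset.sum_filter]
    refine Finset.sum_congr rfl (fun g _ => ?_)
    split_ifs with hg
    · rfl
    · rw [hoff g hg, zero_mul]
  rw [hsum] at e1
  have hH0 : (Nat.card H : ℂ) ≠ 0 := Nat.cast_ne_zero.2 Nat.card_pos.ne'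
  have hK0 : (Nat.card K : ℂ) ≠ 0 := Nat.cast_ne_zero.2 Nat.card_pos.ne'
  have hc : (Nat.card H : ℂ) = Nat.card K := by
    have h1 := (inv_mul_eq_iff_eq_mul₀ hH0).1 e1
    have h2 := (inv_mul_eq_iff_eq_mul₀ hK0).1 e2
    rw [mul_one] at h1 h2
    rw [← h1, ← h2]
  have hc' : Nat.card K = Nat.card H := by exact_mod_cast hc.symm
  have htop : K = ⊤ := Subgroup.eq_top_of_card_eq K hc'
  have : h ∈ K := by rw [htop]; trivial
  rwa [hK, MonoidHom.mem_ker] at this

/-- A fixed point free endomorphism of a finite abelian group. -/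
theorem surj_of_free {Q : Type u} [CommGroup Q] [Finite Q] (α : Q →* Q) (h : ∀ c, α c = c → c = 1)
    (b : Q) : ∃ c, α c * c⁻¹ = b := by
  have hinj : Function.Injective (fun c : Q => α c * c⁻¹) := by
    intro c d hcd
    have h1 : α c * c⁻¹ = α d * d⁻¹ := hcd
    have h2 : α (c * d⁻¹) = c * d⁻¹ := by
      rw [map_mul, map_inv]
      have : α c = α d * d⁻¹ * c := by rw [← h1]; group
      rw [this]
      rw [mul_assoc, mul_assoc]
      rw [mul_comm (α d), mul_assoc, mul_assoc]
      rw [inv_mul_cancel, mul_one, mul_comm]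
    exact mul_inv_eq_one.1 (h _ h2)
  exact (Finite.injective_iff_surjective.1 hinj) b

variable {G : Type u} [Group G] [Finite G] {N M : Subgroup G} {q a : ℕ}

omit [Finite G] in
theorem comm_mem (hF : Frob G N M q a) {x y : G} (hx : x ∈ M) (hy : y ∈ M) :
    x * y * x⁻¹ * y⁻¹ ∈ N :=
  hF.abel (Subgroup.commutator_mem_commutator hx hy)

/-- the quotient `M / N` is commutative -/
abbrev quotComm [N.Normal] (hF : Frob G N M q a) : CommGroup (M ⧸ N.subgroupOf M) :=
  { (inferInstance : Group (M ⧸ N.subgroupOf M)) with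
    mul_comm := by
      intro x y
      induction x using QuotientGroup.induction_on with | _ x => ?_
      induction y using QuotientGroup.induction_on with | _ y => ?_
      rw [← QuotientGroup.mk_mul, ← QuotientGroup.mk_mul]
      apply QuotientGroup.eq.2
      rw [Subgroup.mem_subgroupOf]
      have h1 := comm_mem hF (M.inv_mem y.2) (M.inv_mem x.2)
      convert h1 using 1
      simp only [Subgroup.coe_mul, Subgroup.coe_inv]
      group }

/-- the linear characters of `M` trivial on `N` -/
abbrev Lin (N M : Subgroup G) : Type u := {ν : M →* ℂˣ // ∀ n : M, (n : G) ∈ N → ν n = 1}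

theorem card_lin (hF : Frob G N M q a) : Nat.card (Lin N M) = q ^ a := by
  have := hF.normN
  have := hF.normM
  let _ := quotComm hF
  have h1 : Nat.card ((M ⧸ N.subgroupOf M) →* ℂˣ) = Nat.card (M ⧸ N.subgroupOf M) :=
    CommGroup.card_monoidHom_of_hasEnoughRootsOfUnity _ ℂ
  rw [← hF.card]
  change _ = (N.subgroupOf M).index
  rw [Subgroup.index, ← h1]
  refine Nat.card_congr ⟨fun ν => QuotientGroup.lift (N.subgroupOf M) ν.1 (fun n hn => ν.2 n hn),
    fun ν => ⟨ν.comp (QuotientGroup.mk' (N.subgroupOf M)), fun n hn => ?_⟩, fun ν => ?_,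
    fun ν => ?_⟩
  · have : (QuotientGroup.mk' (N.subgroupOf M)) n = 1 := (QuotientGroup.eq_one_iff n).2 hn
    rw [MonoidHom.comp_apply, this, map_one]
  · ext x
    rfl
  · ext x
    rfl

/-- a linear character of `M / N` fixed by an element outside `M` is trivial -/
theorem eq_one_of_fixed (hF : Frob G N M q a) [hN : N.Normal] [hM : M.Normal] (lam : Lin N M)
    {x : G} (hx : x ∉ M)
    (h : ∀ g : M, lam.1 ⟨x * g * x⁻¹, hM.conj_mem g g.2 x⟩ = lam.1 g) (g : M) : lam.1 g = 1 := by
  let _ := quotComm hF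
  let α : M →* M :=
    { toFun := fun g => ⟨x * g * x⁻¹, hM.conj_mem g g.2 x⟩
      map_one' := by apply Subtype.ext; simp only [OneMemClass.coe_one, mul_one, mul_inv_cancel]
      map_mul' := by
        intro a b
        apply Subtype.ext
        simp only [Subgroup.coe_mul]
        group }
  have hα : N.subgroupOf M ≤ (N.subgroupOf M).comap α := by
    intro n hn
    exact hN.conj_mem _ hn x
  let β : (M ⧸ N.subgroupOf M) →* (M ⧸ N.subgroupOf M) := QuotientGroup.map _ _ α hα
  have hβ : ∀ c, β c = c → c = 1 := by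
    intro c hc
    induction c using QuotientGroup.induction_on with | _ c => ?_
    have h1 : β (c : M ⧸ N.subgroupOf M) = ((α c : M) : M ⧸ N.subgroupOf M) := rfl
    rw [h1] at hc
    apply (QuotientGroup.eq_one_iff c).2
    rw [Subgroup.mem_subgroupOf]
    apply hF.free x hx c c.2
    have h2 := QuotientGroup.eq.1 hc.symm
    rw [Subgroup.mem_subgroupOf] at h2
    have h3 := hN.conj_mem _ h2 (c : G)
    convert h3 using 1
    simp only [Subgroup.coe_mul, Subgroup.coe_inv, α, MonoidHom.coe_mk, OneHom.coe_mk]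
    group
  obtain ⟨c, hc⟩ := surj_of_free β hβ (g : M ⧸ N.subgroupOf M)
  induction c using QuotientGroup.induction_on with | _ c => ?_
  have h1 : β (c : M ⧸ N.subgroupOf M) = ((α c : M) : M ⧸ N.subgroupOf M) := rfl
  rw [h1, ← QuotientGroup.mk_inv, ← QuotientGroup.mk_mul] at hc
  have h2 := QuotientGroup.eq.1 hc
  rw [Subgroup.mem_subgroupOf] at h2
  have h3 := lam.2 _ h2
  rw [map_mul, map_inv, map_mul, map_inv] at h3
  have h4 : lam.1 (α c) = lam.1 c := h c
  rw [h4, mul_inv_cancel, inv_one, one_mul] at h3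
  exact h3

/-- For `x ∉ M` at most one twist of `θ` is fixed by `x`. -/
theorem eq_of_fixed (hF : Frob G N M q a) [hN : N.Normal] [hM : M.Normal] {θ : M → ℂ}
    (hθ : IsIrrCharacter M θ) {t : ℕ} (ht : θ 1 = t) (hq : ¬ q ∣ t) (ν μ : Lin N M)
    {x : G} (hx : x ∉ M)
    (hν : conjFn M (fun h => (ν.1 h : ℂ) * θ h) x = fun h => (ν.1 h : ℂ) * θ h)
    (hμ : conjFn M (fun h => (μ.1 h : ℂ) * θ h) x = fun h => (μ.1 h : ℂ) * θ h) : ν = μ := by
  let lam : Lin N M := ⟨ν.1 * μ.1⁻¹, fun n hn => by
    rw [MonoidHom.mul_apply, MonoidHom.inv_apply, ν.2 n hn, μ.2 n hn, inv_one, mul_one]⟩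
  let α : M →* M :=
    { toFun := fun g => ⟨x * g * x⁻¹, hM.conj_mem g g.2 x⟩
      map_one' := by apply Subtype.ext; simp only [OneMemClass.coe_one, mul_one, mul_inv_cancel]
      map_mul' := by
        intro a b
        apply Subtype.ext
        simp only [Subgroup.coe_mul]
        group }
  have hlam : ∀ g, lam.1 g ^ q = 1 := by
    intro g
    rw [← map_pow]
    apply lam.2
    exact hF.expo g g.2
  have hne : ∀ u : ℂˣ, (u : ℂ) ≠ 0 := fun u => u.ne_zero
  have h1 : ∀ h : M, lam.1 h * (lam.1 (α h))⁻¹ = 1 := by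
    intro h
    have h2 := no_fix hθ ht hF.prime hq (lam.1 * (lam.1.comp α)⁻¹)
      (fun g => by
        rw [MonoidHom.mul_apply, MonoidHom.inv_apply, MonoidHom.comp_apply, mul_pow, inv_pow, hlam,
          hlam, inv_one, mul_one])
      (fun g => by
        have e1 : (ν.1 (α g) : ℂ) * θ (α g) = (ν.1 g : ℂ) * θ g := congrFun hν g
        have e2 : (μ.1 (α g) : ℂ) * θ (α g) = (μ.1 g : ℂ) * θ g := congrFun hμ g
        have e3 : θ (α g) = (μ.1 (α g) : ℂ)⁻¹ * ((μ.1 g : ℂ) * θ g) := by
          rw [← e2, ← mul_assoc, inv_mul_cancel₀ (hne _), one_mul]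
        rw [e3] at e1
        have e4 : ((lam.1 * (lam.1.comp α)⁻¹) g : ℂ)
            = (ν.1 g : ℂ) * (μ.1 g : ℂ)⁻¹ * ((ν.1 (α g) : ℂ) * (μ.1 (α g) : ℂ)⁻¹)⁻¹ := by
          simp only [lam, MonoidHom.mul_apply, MonoidHom.inv_apply, MonoidHom.comp_apply,
            Units.val_mul, Units.val_inv_eq_inv_val]
        rw [e4]
        have n1 := hne (ν.1 (α g))
        have n2 := hne (μ.1 (α g))
        have n3 := hne (ν.1 g)
        have n4 := hne (μ.1 g)
        have e5 : (ν.1 (α g) : ℂ) * (μ.1 g : ℂ) * θ g = (μ.1 (α g) : ℂ) * (ν.1 g : ℂ) * θ g := by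
          field_simp at e1
          linear_combination e1
        field_simp
        linear_combination (-1) * e5) h
    rwa [MonoidHom.mul_apply, MonoidHom.inv_apply, MonoidHom.comp_apply] at h2
  have h2 := eq_one_of_fixed hF lam hx (fun g => (mul_inv_eq_one.1 (h1 g)).symm)
  apply Subtype.ext
  ext g
  have h3 := h2 g
  have h4 : ν.1 g * (μ.1 g)⁻¹ = 1 := h3
  rw [mul_inv_eq_one.1 h4]

/-- `|G : M| < q ^ a` -/
theorem index_lt (hF : Frob G N M q a) : M.index < q ^ a := by
  classical
  have hN := hF.normN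
  have hM := hF.normM
  have hne : ∃ g, g ∈ M ∧ g ∉ N := by
    by_contra hcon
    push Not at hcon
    have h1 : N.relIndex M = 1 := Subgroup.relIndex_eq_one.2 hcon
    rw [hF.card] at h1
    have h2 := Nat.one_lt_pow hF.pos.ne' hF.prime.one_lt
    omega
  obtain ⟨g, hg, hgN⟩ := hne
  rw [← hF.card]
  change Nat.card (G ⧸ M) < Nat.card (M ⧸ N.subgroupOf M)
  let f : G ⧸ M → {c : M ⧸ N.subgroupOf M // c ≠ 1} := fun c =>
    ⟨((⟨c.out * g * c.out⁻¹, hM.conj_mem g hg c.out⟩ : M) : M ⧸ N.subgroupOf M), by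
      intro h0
      have h1 := (QuotientGroup.eq_one_iff _).1 h0
      rw [Subgroup.mem_subgroupOf] at h1
      apply hgN
      have h2 := hN.conj_mem _ h1 (c.out)⁻¹
      convert h2 using 1
      group⟩
  have hf : Function.Injective f := by
    intro c d hcd
    have h1 := congrArg Subtype.val hcd
    have h2 := QuotientGroup.eq.1 h1
    rw [Subgroup.mem_subgroupOf] at h2
    simp only [Subgroup.coe_mul, Subgroup.coe_inv] at h2
    by_contra hne
    apply hgN
    have hout : (d.out)⁻¹ * c.out ∉ M := by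
      intro h3
      apply hne
      have h4 := QuotientGroup.eq.2 h3
      rw [QuotientGroup.out_eq', QuotientGroup.out_eq'] at h4
      exact h4.symm
    apply hF.free _ hout g hg
    have h3 := hN.conj_mem _ (N.inv_mem (hN.conj_mem _ h2 (d.out)⁻¹)) g
    convert h3 using 1
    group
  have h1 := Nat.card_le_card_of_injective f hf
  have h2 : Nat.card {c : M ⧸ N.subgroupOf M // c ≠ 1} < Nat.card (M ⧸ N.subgroupOf M) :=
    Finite.card_subtype_lt (p := fun c : M ⧸ N.subgroupOf M => c ≠ 1) (x := 1) (by simp)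
  omega

/-- Some twist of `θ` has inertia group `M`. -/
theorem exists_twist (hF : Frob G N M q a) [hM : M.Normal] {θ : M → ℂ}
    (hθ : IsIrrCharacter M θ) {t : ℕ} (ht : θ 1 = t) (hq : ¬ q ∣ t) :
    ∃ ν : Lin N M, ∀ x : G,
      conjFn M (fun h => (ν.1 h : ℂ) * θ h) x = (fun h => (ν.1 h : ℂ) * θ h) → x ∈ M := by
  classical
  have hN := hF.normN
  by_contra hcon
  push Not at hcon
  choose x hx hxM using hcon
  let f : Lin N M → G ⧸ M := fun ν => (x ν : G ⧸ M)
  have hf : Function.Injective f := by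
    intro ν μ hνμ
    have h1 : (x ν)⁻¹ * x μ ∈ M := QuotientGroup.eq.1 hνμ
    refine eq_of_fixed hF hθ ht hq ν μ (hxM μ) ?_ (hx μ)
    have h2 : IsClassFunction M (fun h => (ν.1 h : ℂ) * θ h) :=
      isIrr_isClassFunction (isIrr_mul_hom ν.1 hθ)
    have h3 : x μ = (x μ * (x ν)⁻¹) * x ν := by group
    have h4 : x μ * (x ν)⁻¹ ∈ M := by
      have h5 := hM.conj_mem _ h1 (x μ)
      convert h5 using 1
      group
    rw [h3, conjFn_mul, conjFn_of_mem M h2 h4]
    exact hx ν
  have h1 := Nat.card_le_card_of_injective f hf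
  rw [card_lin hF] at h1
  have h2 := index_lt hF
  rw [Subgroup.index] at h2
  omega

/-- **S4766, B7.** -/
theorem b7_coprime {G : Type u} [Group G] [Finite G] {N M : Subgroup G} {q a : ℕ}
    (hF : Frob G N M q a) {θ : M → ℂ} (hθ : IsIrrCharacter M θ) {t : ℕ} (ht : θ 1 = t)
    (hq : ¬ q ∣ t) : M.index * t ∈ charDegrees G := by
  classical
  have := hF.normM
  have := Fintype.ofFinite G
  obtain ⟨ν, hν⟩ := exists_twist hF hθ ht hq
  have h1 := isIrr_indFun_of_stabilizer M (isIrr_mul_hom ν.1 hθ) hν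
  refine H424.DegTools.mem_charDegrees.2 ⟨_, h1, ?_⟩
  rw [indFun_apply_one, map_one, ht]
  push_cast
  ring

end Cfsg.Agent.H521.AN
end

-- part: H104/AN/B8
section
/-!
# S4766, piece B8: characters of degree prime to `|G : M|` over a Frobenius section
-/

set_option autoImplicit false

namespace Cfsg.Agent.H104.AN

open Cfsg Cfsg.Agent.H691.AN Cfsg.Agent.Characters.Core
open Cfsg.Agent.OddOrderCharacters.NormalInduced Cfsg.Agent.OddOrderCharacters.IndRes
open scoped ComplexConjugate

universe u

section act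
variable {G : Type u} [Group G] (N M : Subgroup G) [N.Normal] [M.Normal]

theorem map_conj (g : G) : (N.subgroupOf M).map ((MulAut.conjNormal g : MulAut M) : M →* M) = N.subgroupOf M := by
  ext m
  constructor
  · rintro ⟨y, hy, rfl⟩
    exact Subgroup.Normal.conj_mem (inferInstance : N.Normal) (y : G) hy g
  · intro hm
    refine ⟨MulAut.conjNormal g⁻¹ m, Subgroup.Normal.conj_mem (inferInstance : N.Normal) (m : G) hm g⁻¹, ?_⟩
    apply Subtype.ext
    show g * (g⁻¹ * m * g⁻¹⁻¹) * g⁻¹ = m
    group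

/-- the action of `G` on `M / N` -/
noncomputable def act : G →* MulAut (M ⧸ N.subgroupOf M) where
  toFun g := QuotientGroup.congr _ _ (MulAut.conjNormal g) (map_conj N M g)
  map_one' := by
    apply MulEquiv.ext
    intro u
    obtain ⟨m, rfl⟩ := QuotientGroup.mk_surjective u
    show (QuotientGroup.mk (MulAut.conjNormal 1 m) : M ⧸ N.subgroupOf M) = QuotientGroup.mk m
    rw [map_one]
    rfl
  map_mul' g h := by
    apply MulEquiv.ext
    intro u
    obtain ⟨m, rfl⟩ := QuotientGroup.mk_surjective u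
    show (QuotientGroup.mk (MulAut.conjNormal (g * h) m) : M ⧸ N.subgroupOf M) = _
    rw [map_mul]
    rfl

theorem act_mk (g : G) (m : M) :
    act N M g (m : M ⧸ N.subgroupOf M) = ((MulAut.conjNormal g m : M) : M ⧸ N.subgroupOf M) := rfl

end act

section frob
variable {G : Type u} [Group G] {N M : Subgroup G} {q a : ℕ} [N.Normal] [M.Normal]

theorem act_fixed (hF : Frob G N M q a) {x : G} (hx : x ∉ M) {u : M ⧸ N.subgroupOf M}
    (h : act N M x u = u) : u = 1 := by
  obtain ⟨m, rfl⟩ := QuotientGroup.mk_surjective u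
  have h1 : x * m * x⁻¹ * (m : G)⁻¹ ∈ N := by
    have h2 : act N M x (m : M ⧸ N.subgroupOf M) * (m : M ⧸ N.subgroupOf M)⁻¹ = 1 := by
      rw [h, mul_inv_cancel]
    rw [act_mk] at h2
    exact (QuotientGroup.eq_one_iff (N := N.subgroupOf M) (MulAut.conjNormal x m * m⁻¹)).1 h2
  exact (QuotientGroup.eq_one_iff (N := N.subgroupOf M) m).2 (hF.free x hx m m.2 h1)

omit [M.Normal] in
theorem quot_comm (hF : Frob G N M q a) (u v : M ⧸ N.subgroupOf M) : u * v = v * u := by
  obtain ⟨x, rfl⟩ := QuotientGroup.mk_surjective u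
  obtain ⟨y, rfl⟩ := QuotientGroup.mk_surjective v
  have h1 : ((x * y * x⁻¹ * y⁻¹ : M) : M ⧸ N.subgroupOf M) = 1 := by
    rw [QuotientGroup.eq_one_iff]
    exact hF.abel (Subgroup.commutator_mem_commutator x.2 y.2)
  have h2 : (x : M ⧸ N.subgroupOf M) * y * (x : M ⧸ N.subgroupOf M)⁻¹ * (y : M ⧸ N.subgroupOf M)⁻¹ = 1 := h1
  rwa [mul_inv_eq_one, mul_inv_eq_iff_eq_mul] at h2

theorem act_of_mem (hF : Frob G N M q a) {x : G} (hx : x ∈ M) : act N M x = 1 := by
  apply MulEquiv.ext
  intro u
  obtain ⟨m, rfl⟩ := QuotientGroup.mk_surjective u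
  rw [act_mk]
  have h1 : ((MulAut.conjNormal x m : M) : M ⧸ N.subgroupOf M)
      = ((⟨x, hx⟩ : M) : M ⧸ N.subgroupOf M) * m * (((⟨x, hx⟩ : M) : M ⧸ N.subgroupOf M))⁻¹ := rfl
  rw [h1, quot_comm hF, inv_mul_cancel_left]
  rfl

theorem cyclic_quot [Finite G] (hF : Frob G N M q a) : IsCyclic (G ⧸ M) := by
  by_contra hnc
  have hne : ∃ w ∈ M, w ∉ N := by
    by_contra hcon
    push Not at hcon
    have h1 : N.relIndex M = 1 := Subgroup.relIndex_eq_one.2 hcon
    rw [hF.card] at h1
    exact absurd h1 (Nat.one_lt_pow hF.pos.ne' hF.prime.one_lt).ne'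
  obtain ⟨w, hwM, hwN⟩ := hne
  let φ : G ⧸ M →* MulAut (M ⧸ N.subgroupOf M) := QuotientGroup.lift M (act N M) (fun x hx => act_of_mem hF hx)
  obtain ⟨b, -, hb1, u, -, hu1, hu⟩ := H456.exists_fixed_of_not_cyclic φ (⊤ : Subgroup (M ⧸ N.subgroupOf M))
    (fun x _ y _ => quot_comm hF x y) (by
      intro h0
      have h1 : ((⟨w, hwM⟩ : M) : M ⧸ N.subgroupOf M) ∈ (⊤ : Subgroup (M ⧸ N.subgroupOf M)) := Subgroup.mem_top _
      rw [h0, Subgroup.mem_bot, QuotientGroup.eq_one_iff] at h1
      exact hwN h1) (⊤ : Subgroup (G ⧸ M))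
    (by
      intro x _ y _
      obtain ⟨x, rfl⟩ := QuotientGroup.mk_surjective x
      obtain ⟨y, rfl⟩ := QuotientGroup.mk_surjective y
      have h1 : ((x * y * x⁻¹ * y⁻¹ : G) : G ⧸ M) = 1 := by
        rw [QuotientGroup.eq_one_iff]
        exact hF.comm (Subgroup.commutator_mem_commutator (Subgroup.mem_top x) (Subgroup.mem_top y))
      have h2 : (x : G ⧸ M) * y * (x : G ⧸ M)⁻¹ * (y : G ⧸ M)⁻¹ = 1 := h1
      rwa [mul_inv_eq_one, mul_inv_eq_iff_eq_mul] at h2)
    (fun hc => hnc (Subgroup.topEquiv.isCyclic.1 hc)) (fun _ _ _ _ => Subgroup.mem_top _)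
  obtain ⟨x, rfl⟩ := QuotientGroup.mk_surjective b
  exact hu1 (act_fixed hF (fun hx => hb1 ((QuotientGroup.eq_one_iff x).2 hx)) hu)

end frob

theorem closure_normal {G : Type u} [Group G] {S : Set G} (h : ∀ s ∈ S, ∀ g : G, g * s * g⁻¹ ∈ S) :
    (Subgroup.closure S).Normal := by
  refine ⟨fun n hn g => ?_⟩
  induction hn using Subgroup.closure_induction with
  | mem x hx => exact Subgroup.subset_closure (h x hx g)
  | one => simp
  | mul x y _ _ ihx ihy =>
    have e : g * (x * y) * g⁻¹ = (g * x * g⁻¹) * (g * y * g⁻¹) := by group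
    rw [e]
    exact Subgroup.mul_mem _ ihx ihy
  | inv x _ ihx =>
    have e : g * x⁻¹ * g⁻¹ = (g * x * g⁻¹)⁻¹ := by group
    rw [e]
    exact Subgroup.inv_mem _ ihx

/-- case A: the set where `θ` does not vanish generates `M` modulo `N` -/
theorem caseA {G : Type u} [Group G] [Fintype G] {N M : Subgroup G} {q a : ℕ} [N.Normal] [M.Normal]
    (hF : Frob G N M q a) {χ : G → ℂ} {d : ℕ} (hχ : IsIrrCharacter G χ) (hd : χ 1 = d)
    (hθ : IsIrrCharacter M (fun m : M => χ m))
    (hK : ∀ L : Subgroup M, N.subgroupOf M ≤ L → (∀ m : M, χ m ≠ 0 → m ∈ L) → L = ⊤) :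
    M.index * d ∈ charDegrees G := by
  classical
  have hne : ∃ w ∈ M, w ∉ N := by
    by_contra hcon
    push Not at hcon
    have h1 : N.relIndex M = 1 := Subgroup.relIndex_eq_one.2 hcon
    rw [hF.card] at h1
    exact absurd h1 (Nat.one_lt_pow hF.pos.ne' hF.prime.one_lt).ne'
  obtain ⟨w, hwM, hwN⟩ := hne
  have hw1 : ((⟨w, hwM⟩ : M) : M ⧸ N.subgroupOf M) ∉ (⊥ : Subgroup (M ⧸ N.subgroupOf M)) := by
    rw [Subgroup.mem_bot, QuotientGroup.eq_one_iff]
    exact hwN
  obtain ⟨ν0, -, hν0⟩ := OddOrderCharacters.PrimeTI.exists_hom_ne_one ⟨⟨quot_comm hF⟩⟩ _ hw1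
  let ν : M →* ℂˣ := ν0.comp (QuotientGroup.mk' (N.subgroupOf M))
  have hνN : ∀ n : M, (n : G) ∈ N → ν n = 1 := by
    intro n hn
    have h1 : (QuotientGroup.mk' (N.subgroupOf M)) n = 1 := (QuotientGroup.eq_one_iff n).2 hn
    show ν0 ((QuotientGroup.mk' (N.subgroupOf M)) n) = 1
    rw [h1, map_one]
  have hψ := CharactersDeep.ExtUnique.isIrr_mul_hom hθ ν
  have hst : ∀ g : G, conjFn M (fun m : M => χ m * (ν m : ℂ)) g = (fun m : M => χ m * (ν m : ℂ)) → g ∈ M := by
    intro g hg
    by_contra hgM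
    let L : Subgroup M := MonoidHom.eqLocus (ν.comp (MulAut.conjNormal g : MulAut M).toMonoidHom) ν
    have hL : L = ⊤ := by
      refine hK L ?_ ?_
      · intro n hn
        show ν (MulAut.conjNormal g n) = ν n
        rw [hνN n hn, hνN]
        exact Subgroup.Normal.conj_mem (inferInstance : N.Normal) (n : G) hn g
      · intro m hm
        show ν (MulAut.conjNormal g m) = ν m
        have h1 := congrFun hg m
        rw [conjFn_apply] at h1
        have h2 : χ (g * m * g⁻¹) = χ m := isIrr_isClassFunction hχ m g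
        simp only [h2] at h1
        have h3 := mul_left_cancel₀ hm h1
        exact Units.ext h3
    have hinj : Function.Injective (fun u : M ⧸ N.subgroupOf M => act N M g u * u⁻¹) := by
      intro u v huv
      have h1 : act N M g u * u⁻¹ = act N M g v * v⁻¹ := huv
      have h2 : act N M g (v⁻¹ * u) = v⁻¹ * u := by
        rw [map_mul, map_inv]
        rw [mul_inv_eq_iff_eq_mul] at h1
        rw [h1, mul_assoc, inv_mul_cancel_left]
      have h3 := act_fixed hF hgM h2
      rw [inv_mul_eq_one] at h3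
      exact h3.symm
    have hsur := Finite.injective_iff_surjective.1 hinj
    obtain ⟨u, hu⟩ := hsur ((⟨w, hwM⟩ : M) : M ⧸ N.subgroupOf M)
    obtain ⟨m, rfl⟩ := QuotientGroup.mk_surjective u
    apply hν0
    rw [← hu]
    show ν0 (act N M g (m : M ⧸ N.subgroupOf M) * (m : M ⧸ N.subgroupOf M)⁻¹) = 1
    rw [map_mul, map_inv, act_mk]
    have h1 : m ∈ L := by rw [hL]; exact Subgroup.mem_top m
    have h2 : ν (MulAut.conjNormal g m) = ν m := h1
    have h3 : ν0 ((MulAut.conjNormal g m : M) : M ⧸ N.subgroupOf M) = ν0 (m : M ⧸ N.subgroupOf M) := h2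
    rw [h3, mul_inv_cancel]
  refine H424.DegTools.mem_charDegrees.2 ⟨_, isIrr_indFun_of_stabilizer M hψ hst, ?_⟩
  rw [indFun_apply_one]
  simp only [OneMemClass.coe_one, map_one, Units.val_one, mul_one, hd]
  push_cast
  ring

/-- transport of functions from `N` to `N.subgroupOf M` -/
def tr {G : Type u} [Group G] {N M : Subgroup G} (f : N → ℂ) : N.subgroupOf M → ℂ :=
  fun x => f ⟨(x : M), Subgroup.mem_subgroupOf.mp x.2⟩

theorem tr_inj {G : Type u} [Group G] {N M : Subgroup G} (hNM : N ≤ M) {f f' : N → ℂ}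
    (h : (tr f : N.subgroupOf M → ℂ) = tr f') : f = f' := by
  funext n
  exact congrFun h ⟨⟨n, hNM n.2⟩, n.2⟩

theorem tr_irr {G : Type u} [Group G] {N M : Subgroup G} (hNM : N ≤ M) {f : N → ℂ}
    (h : IsIrrCharacter N f) : IsIrrCharacter (N.subgroupOf M) (tr f) :=
  isIrr_comp (Subgroup.subgroupOfEquivOfLe hNM).toMonoidHom (Subgroup.subgroupOfEquivOfLe hNM).surjective h

theorem tr_inner {G : Type u} [Group G] {N M : Subgroup G} [Fintype N] [Fintype (N.subgroupOf M)] (hNM : N ≤ M)
    (f f' : N → ℂ) : classInner (tr f : N.subgroupOf M → ℂ) (tr f') = classInner f f' := by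
  rw [classInner_def, classInner_def, Nat.card_congr (Subgroup.subgroupOfEquivOfLe hNM).toEquiv]
  congr 1
  exact Fintype.sum_equiv (Subgroup.subgroupOfEquivOfLe hNM).toEquiv _ _ (fun x => rfl)

theorem sum_subgroup {A : Type u} [Group A] [Fintype A] (B : Subgroup A) [Fintype B] (f : A → ℂ)
    (h : ∀ x, x ∉ B → f x = 0) : ∑ x : A, f x = ∑ b : B, f b := by
  classical
  rw [← Finset.sum_subtype (Finset.univ.filter (· ∈ B)) (fun x => by simp only [Finset.mem_filter, Finset.mem_univ, true_and]) f]
  refine (Finset.sum_subset (Finset.subset_univ _) ?_).symm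
  intro x _ hx
  exact h x (fun hB => hx (Finset.mem_filter.2 ⟨Finset.mem_univ _, hB⟩))

/-- the norm of the restriction to `B` of an irreducible character vanishing off `B` -/
theorem norm_res {A : Type u} [Group A] [Fintype A] (B : Subgroup A) [Fintype B] {θ : A → ℂ}
    (hθ : IsIrrCharacter A θ) (h : ∀ x, x ∉ B → θ x = 0) :
    classInner (fun b : B => θ b) (fun b : B => θ b) = B.index := by
  have h1 := classInner_irr_self hθ
  rw [classInner_def, sum_subgroup B _ (fun x hx => by rw [h x hx, zero_mul])] at h1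
  rw [classInner_def]
  have h2 : (Nat.card B : ℂ) * B.index = Nat.card A := by exact_mod_cast B.card_mul_index
  have hA : (Nat.card A : ℂ) ≠ 0 := card_ne_zero_complex
  have hB : (Nat.card B : ℂ) ≠ 0 := card_ne_zero_complex
  have hB' : (B.index : ℂ) ≠ 0 := by
    exact_mod_cast Subgroup.index_ne_zero_of_finite
  rw [← h2] at h1
  field_simp at h1 ⊢
  rw [h1]

/-- case B: `χ` vanishes on `M` outside `N` -/
theorem caseB {G : Type u} [Group G] [Fintype G] {N M : Subgroup G} {q a : ℕ} [hNn : N.Normal] [M.Normal]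
    (hF : Frob G N M q a) {χ : G → ℂ} {d : ℕ} (hχ : IsIrrCharacter G χ) (hd : χ 1 = d)
    (hθ : IsIrrCharacter M (fun m : M => χ m)) (hv : ∀ m ∈ M, m ∉ N → χ m = 0) :
    q ^ a ∣ d ∨ ∃ e : ℕ, e ^ 2 = q ^ a ∧ e ∣ d ∧ (M.index ∣ e - 1 ∨ M.index ∣ e + 1) := by
  classical
  have hNM := hF.le
  set θ : M → ℂ := fun m : M => χ m with hθdef
  -- a constituent
  have hχN : IsCharacter N (fun n : N => χ n) := isCharacter_comp N.subtype (isIrr_isCharacter hχ)
  obtain ⟨φ, hφ, hφ0⟩ : ∃ φ : N → ℂ, IsIrrCharacter N φ ∧ classInner (fun n : N => χ n) φ ≠ 0 := by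
    by_contra hcon
    push Not at hcon
    have h0 := classFunction_eq_zero (isCharacter_isClassFunction hχN) hcon
    have h2 := congrFun h0 1
    simp only [Pi.zero_apply, OneMemClass.coe_one] at h2
    exact isIrr_apply_one_ne_zero hχ h2
  have hres : (fun x : N.subgroupOf M => θ x) = tr (fun n : N => χ n) := rfl
  have hin : ∀ f : N → ℂ, classInner (fun x : N.subgroupOf M => θ x) (tr f) = classInner (fun n : N => χ n) f := by
    intro f
    rw [hres, tr_inner hNM]
  have htc : ∀ m : M, (tr (conjFn N φ (m : G)) : N.subgroupOf M → ℂ)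
      = (tr φ) ∘ (MulAut.conjNormal m : MulAut (N.subgroupOf M)) := fun m => rfl
  -- `G`-conjugates are `M`-conjugates
  have hconj : ∀ g : G, ∃ m : M, conjFn N φ g = conjFn N φ (m : G) := by
    intro g
    have h1 : classInner (fun n : N => χ n) (conjFn N φ g) ≠ 0 := by
      have h2 := classInner_conjFn N (res N χ) φ g
      rw [conjFn_res N (isIrr_isClassFunction hχ)] at h2
      have h3 : classInner (fun n : N => χ n) (conjFn N φ g) = classInner (fun n : N => χ n) φ := h2
      rw [h3]
      exact hφ0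
    obtain ⟨m, hm⟩ := Characters.Clifford.exists_conj_of_constituents (N.subgroupOf M) hθ (tr_irr hNM hφ)
      (tr_irr hNM (isIrr_conjFn N hφ g)) (by rw [hin]; exact hφ0) (by rw [hin]; exact h1)
    refine ⟨m, tr_inj hNM ?_⟩
    rw [hm, htc]
  -- the inertia group in `M`
  let T : Subgroup G :=
    { carrier := {g | g ∈ M ∧ conjFn N φ g = φ}
      one_mem' := ⟨M.one_mem, conjFn_one N φ⟩
      mul_mem' := by
        rintro x y ⟨hx, hx'⟩ ⟨hy, hy'⟩
        exact ⟨M.mul_mem hx hy, by rw [conjFn_mul, hx', hy']⟩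
      inv_mem' := by
        rintro x ⟨hx, hx'⟩
        refine ⟨M.inv_mem hx, ?_⟩
        have h1 := conjFn_mul N φ x x⁻¹
        rw [hx', mul_inv_cancel, conjFn_one] at h1
        exact h1.symm }
  have hTM : T ≤ M := fun x hx => hx.1
  have hNT : N ≤ T := fun x hx => ⟨hNM hx, conjFn_of_mem N (isIrr_isClassFunction hφ) hx⟩
  have hTn : T.Normal := by
    refine ⟨fun t ht g => ⟨Subgroup.Normal.conj_mem inferInstance t ht.1 g, ?_⟩⟩
    rw [← conjFn_eq_iff, conjFn_mul]
    obtain ⟨m, hm⟩ := hconj g
    rw [hm, ← conjFn_mul]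
    have h1 : (m : G) * t = ((m : G) * t * (m : G)⁻¹ * t⁻¹) * (t * m) := by group
    have h2 : (m : G) * t * (m : G)⁻¹ * t⁻¹ ∈ N :=
      hF.abel (Subgroup.commutator_mem_commutator m.2 ht.1)
    rw [h1, conjFn_mul, conjFn_of_mem N (isIrr_isClassFunction hφ) h2, conjFn_mul, ht.2]
  have he := isCharacter_comp (N.subgroupOf M).subtype (isIrr_isCharacter hθ)
  obtain ⟨e, he⟩ := classInner_isNat he (isIrr_isCharacter (tr_irr hNM hφ))
  have he' : classInner (fun x : N.subgroupOf M => θ x) (tr φ) = (e : ℂ) := he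
  have he0 : e ≠ 0 := by
    rintro rfl
    rw [hin] at he'
    exact hφ0 (by rw [he']; simp)
  have he1 : classInner (fun x : N.subgroupOf M => θ x) (tr φ) ≠ 0 := by rw [hin]; exact hφ0
  have hsum := CharactersDeep.CliffordSum.restrict_eq_smul_sum (N.subgroupOf M) hθ (tr_irr hNM hφ) he1
  have hnorm := CharactersDeep.CliffordSum.classInner_restrict_self_eq (N.subgroupOf M) hθ (tr_irr hNM hφ) he' he0
  have hcard := CharactersDeep.CliffordSum.card_conj_mul_card (N.subgroupOf M) (tr φ) (T.subgroupOf M) (by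
    intro m
    rw [← htc]
    constructor
    · intro hm
      rw [(show (m : G) ∈ T from hm).2]
    · intro hm
      exact ⟨m.2, tr_inj hNM hm⟩)
  obtain ⟨f, hf0, hf⟩ := isIrr_apply_one hφ
  set F := Finset.univ.image (fun x : M => (tr φ : N.subgroupOf M → ℂ) ∘
    (MulAut.conjNormal x : MulAut (N.subgroupOf M))) with hFdef
  -- the degree
  have hdeg : d = e * (F.card * f) := by
    have h1 := congrFun hsum 1
    rw [he'] at h1
    have h2 : ∀ ψ ∈ F, ψ 1 = (f : ℂ) := by
      intro ψ hψ
      obtain ⟨x, -, rfl⟩ := Finset.mem_image.1 hψ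
      show tr φ (MulAut.conjNormal x 1) = (f : ℂ)
      rw [map_one]
      exact hf
    have h3 : (∑ ψ ∈ F, ψ) 1 = (F.card : ℂ) * f := by
      rw [Finset.sum_apply, Finset.sum_congr rfl h2, Finset.sum_const, nsmul_eq_mul]
    have h4 : ((e : ℂ) • ∑ ψ ∈ F, ψ) 1 = (e : ℂ) * ((F.card : ℂ) * f) := by
      rw [Pi.smul_apply, h3, smul_eq_mul]
    rw [h4] at h1
    have h5 : (d : ℂ) = (e : ℂ) * ((F.card : ℂ) * f) := by
      rw [← hd, ← h1]
      rfl
    exact_mod_cast h5
  have hq : (N.subgroupOf M).index = q ^ a := hF.card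
  rcases hF.chief T hTn hNT hTM with hT | hT
  · left
    rw [hT] at hcard
    have h1 : F.card = q ^ a := by
      rw [← hq]
      have h2 := (N.subgroupOf M).card_mul_index
      have h3 : 0 < Nat.card (N.subgroupOf M) := Nat.card_pos
      rw [← hcard, mul_comm] at h2
      exact (Nat.eq_of_mul_eq_mul_right h3 h2).symm
    rw [hdeg, h1]
    exact ⟨e * f, by ring⟩
  · right
    rw [hT, Subgroup.subgroupOf_self] at hcard
    have h1 : F.card = 1 := by
      rw [Subgroup.card_top] at hcard
      exact Nat.eq_of_mul_eq_mul_right Nat.card_pos (by rw [hcard, one_mul])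
    have hvan : ∀ x : M, x ∉ N.subgroupOf M → θ x = 0 := fun x hx => hv x x.2 hx
    have h2 := norm_res (N.subgroupOf M) hθ hvan
    rw [hnorm, h1, mul_one, hq] at h2
    have h3 : e ^ 2 = q ^ a := by exact_mod_cast h2
    have hF1 : F = {tr φ} := by
      obtain ⟨y, hy⟩ := Finset.card_eq_one.1 h1
      have h4 : (tr φ : N.subgroupOf M → ℂ) ∈ F := Finset.mem_image.2 ⟨1, Finset.mem_univ _, by
        rw [map_one]; rfl⟩
      rw [hy, Finset.mem_singleton] at h4
      rw [hy, h4]
    rw [hF1, Finset.sum_singleton, he'] at hsum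
    have hGinv : ∀ g : G, conjFn N φ g = φ := by
      intro g
      obtain ⟨m, hm⟩ := hconj g
      rw [hm]
      exact (show (m : G) ∈ T by rw [hT]; exact m.2).2
    have hram : indFun (N.subgroupOf M) (tr φ) = fun g => (e : ℂ) * θ g := by
      funext x
      by_cases hx : x ∈ N.subgroupOf M
      · have h4 := CharactersDeep.NormalInd.indFun_of_invariant (N.subgroupOf M) (tr φ : N.subgroupOf M → ℂ) (by
          intro m n
          have h5 := congrFun (hGinv (m : G)) ⟨(n : M), n.2⟩
          exact h5) ⟨x, hx⟩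
        have h5 := congrFun hsum ⟨x, hx⟩
        rw [hq, ← h3] at h4
        have h6 : θ x = (e : ℂ) * tr φ ⟨x, hx⟩ := h5
        have h7 : indFun (N.subgroupOf M) (tr φ) x = ((e ^ 2 : ℕ) : ℂ) * tr φ ⟨x, hx⟩ := h4
        rw [h7, h6]
        push_cast
        ring
      · rw [indFun_of_notMem (N.subgroupOf M) _ hx, hvan x hx, mul_zero]
    have hres := S4454.result (Γ := G) M N hNM hF.ne_top (by
        intro h0
        have h4 : (N.subgroupOf M).index = 1 := by rw [h0, Subgroup.subgroupOf_self, Subgroup.index_top]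
        rw [hq] at h4
        exact absurd h4 (Nat.one_lt_pow hF.pos.ne' hF.prime.one_lt).ne')
      (cyclic_quot hF) hF.free ⟨φ, hφ⟩ (fun x n => congrFun (hGinv x) n) ⟨θ, hθ⟩ e hram
    refine ⟨e, h3, ⟨F.card * f, hdeg⟩, ?_⟩
    have he2 : 1 ≤ e := Nat.one_le_iff_ne_zero.2 he0
    rcases hres with h | h
    · left
      have h4 : ((e - 1 : ℕ) : ℤ) = (e : ℤ) - 1 := by push_cast [he2]; ring
      rw [← h4] at h
      exact_mod_cast h
    · right
      exact_mod_cast h

/-- B8: characters of `G` of degree prime to `|G : M|` -/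
theorem b8_invariant {G : Type u} [Group G] [Finite G] {N M : Subgroup G} {q a : ℕ} (hF : Frob G N M q a) {d : ℕ}
    (hd : d ∈ charDegrees G) (hdm : d.Coprime M.index) :
    M.index * d ∈ charDegrees G ∨ q ^ a ∣ d ∨ ∃ e : ℕ, e ^ 2 = q ^ a ∧ e ∣ d ∧ (M.index ∣ e - 1 ∨ M.index ∣ e + 1) := by
  classical
  have := hF.normN
  have := hF.normM
  have := Fintype.ofFinite G
  obtain ⟨χ, hχ, hχ1⟩ := H424.DegTools.mem_charDegrees.1 hd
  have hdeg : charDegree χ = d := by
    have h1 := Blocks.Basic.irr_one_eq_charDegree hχ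
    rw [hχ1] at h1
    exact_mod_cast h1.symm
  have hθ : IsIrrCharacter M (fun m : M => χ m) :=
    H597.Degrees.isIrr_restrict_of_coprime M hχ (by rw [hdeg]; exact hdm.symm)
  let K0 : Subgroup G := Subgroup.closure ({x | x ∈ M ∧ χ x ≠ 0} ∪ (N : Set G))
  have hK0n : K0.Normal := by
    refine closure_normal ?_
    rintro s (⟨hs, hs'⟩ | hs) g
    · left
      refine ⟨Subgroup.Normal.conj_mem inferInstance s hs g, ?_⟩
      rw [isIrr_isClassFunction hχ s g]
      exact hs'
    · right
      exact Subgroup.Normal.conj_mem (inferInstance : N.Normal) s hs g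
  have hNK : N ≤ K0 := fun x hx => Subgroup.subset_closure (Or.inr hx)
  have hKM : K0 ≤ M := by
    rw [Subgroup.closure_le]
    rintro s (⟨hs, -⟩ | hs)
    · exact hs
    · exact hF.le hs
  rcases hF.chief K0 hK0n hNK hKM with hK | hK
  · right
    refine caseB hF hχ hχ1 hθ ?_
    intro m hm hmN
    by_contra h0
    exact hmN (hK ▸ Subgroup.subset_closure (Or.inl ⟨hm, h0⟩))
  · left
    refine caseA hF hχ hχ1 hθ ?_
    intro L hL1 hL2
    rw [eq_top_iff]
    intro x _
    have h1 : K0 ≤ L.map M.subtype := by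
      rw [Subgroup.closure_le]
      rintro s (⟨hs, hs'⟩ | hs)
      · exact ⟨⟨s, hs⟩, hL2 ⟨s, hs⟩ hs', rfl⟩
      · exact ⟨⟨s, hF.le hs⟩, hL1 hs, rfl⟩
    have h2 : (x : G) ∈ L.map M.subtype := h1 (by rw [hK]; exact x.2)
    obtain ⟨y, hy, hyx⟩ := h2
    have h3 : y = x := Subtype.ext hyx
    rw [← h3]
    exact hy

end Cfsg.Agent.H104.AN
end

-- part: H107/AN/BFourA
section
/-!
# S4766 B4 from B1, B2, B3 (helper107)
-/

set_option autoImplicit false

namespace Cfsg.Agent.H107.AN

open Cfsg Cfsg.Agent.H691.AN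

universe u

/-- **B4** from B1, B2, B3 -/
theorem b4_linear_of (b1 : B1.{u}) (b2 : B2.{u}) (b3 : B3.{u}) {n : ℕ} (hn : 20 ≤ n)
    {G : Type u} [Group G] [Finite G] [Group.IsSolvable G]
    (h : charDegrees G = D n) : ∃ A : Subgroup G, A.Normal ∧ commutator G ≤ A ∧ A.index = n - 1 ∧
      ∃ χ : G → ℂ, IsIrrCharacter G χ ∧ χ 1 = (n - 1 : ℕ) ∧ ∀ g ∈ ⁅A, A⁆, χ g = χ 1 :=
  b4_of (fun hn => H35.AN.a3_low hn)
    (fun hn => H71.AN.a4_of (fun hn => H89.AN.a1_mem hn) hn)
    (fun hn => H71.AN.a6_of (fun hn => H89.AN.a2_part hn) hn) b1 b2 b3 hn h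

end Cfsg.Agent.H107.AN
end

-- part: H691/AN/Main
section
/-!
# S4766, modulo some pieces (helper691)
-/

set_option autoImplicit false

namespace Cfsg.Agent.H691.AN.Main

open Cfsg Cfsg.Agent.H691.AN

universe u

open scoped commutatorElement

/-- The pieces proved elsewhere. -/
structure Late : Prop where
  c1 : ∀ {n : ℕ}, 6 ≤ n → ∀ {A : Type u} [Group A] [Finite A] {S : Subgroup A}, AlmostSimple A S →
      charDegrees A ⊆ D n → Nonempty (S ≃* An n)
  c2 : ∀ {n : ℕ}, 6 ≤ n → ∀ {Y : Type u} [Group Y] [Finite Y], charDegrees Y ⊆ D n → ∀ W : Subgroup Y, W.Normal →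
      W ≠ ⊥ → (∀ K : Subgroup Y, K.Normal → K ≤ W → K = ⊥ ∨ K = W) → ¬ IsMulCommutative W → IsSimpleGroup W
  noChief : ∀ {n : ℕ}, 7 ≤ n → NoChief.{u} n

theorem a4 {n : ℕ} (hn : 7 ≤ n) : n - 1 ∈ D n ∧ n * (n - 3) / 2 ∈ D n ∧ (n - 1) * (n - 2) / 2 ∈ D n :=
  H71.AN.a4_of (@fun _ hn _ hl _ hd => H89.AN.a1_mem hn hl hd) hn

theorem a5 {n : ℕ} (hn : 10 ≤ n) {p k : ℕ} (hp : p.Prime) (hk : 0 < k) (h : p ^ k ∈ D n) : p ^ k = n - 1 :=
  H71.AN.a5_of (@fun _ hn _ hd => H89.AN.a2_part hn hd) hn hp hk h

theorem a6 {n : ℕ} (hn : 7 ≤ n) {d : ℕ} (hd : d ∈ D n) : d = 1 ∨ n - 1 ≤ d :=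
  H71.AN.a6_of (@fun _ hn _ hd => H89.AN.a2_part hn hd) hn hd

theorem b5 {n : ℕ} (hn : 20 ≤ n) {G : Type u} [Group G] [Finite G] (h : charDegrees G = D n) (K : Subgroup G)
    [K.Normal] {q : ℕ} (hq : q.Prime) (hK : IsPGroup q (G ⧸ K)) : commutator G ≤ K :=
  H456.AN.b5_pquot (@fun _ hn _ hd => H35.AN.a3_low hn hd) (fun hn => a4 hn) (@fun _ hn _ _ hp hk h => a5 hn hp hk h) hn h K hq hK

theorem b4 {n : ℕ} (hn : 20 ≤ n) {G : Type u} [Group G] [Finite G] [Group.IsSolvable G] (h : charDegrees G = D n) :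
    ∃ A : Subgroup G, A.Normal ∧ commutator G ≤ A ∧ A.index = n - 1 ∧
      ∃ χ : G → ℂ, IsIrrCharacter G χ ∧ χ 1 = (n - 1 : ℕ) ∧ ∀ g ∈ ⁅A, A⁆, χ g = χ 1 :=
  H107.AN.b4_linear_of (@fun _ _ _ _ h H hH => H724.AN.b1_trick h H hH) (@fun _ _ _ _ h => H724.AN.b2_exists_qp h)
    (@fun _ _ _ _ _ h hq _ hb h1 => H131.AN.b3_section h hq hb h1) hn h

/-- groups with the degrees of `A_n` are not solvable -/
theorem not_solvable {n : ℕ} (hn : 7 ≤ n) {G : Type u} [Group G] [Finite G]
    (hs : Group.IsSolvable G) (h : charDegrees G = D n) : False := by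
  rcases Nat.lt_or_ge n 20 with h20 | h20
  · have h1 := H245.AN.b10_small (by omega) h20 h
    have h2 : commutator G = ⊥ := eq_bot_of_perfect h1
      (Group.isSolvable_of_isSolvable_injective (f := (commutator G).subtype) Subtype.val_injective)
    have h3 : n - 1 ∈ charDegrees G := h ▸ (a4 hn).1
    have hc : ∀ a b : G, a * b = b * a := by
      intro a b
      have h4 : ⁅a, b⁆ ∈ commutator G := by
        rw [commutator_def]
        exact Subgroup.commutator_mem_commutator (Subgroup.mem_top a) (Subgroup.mem_top b)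
      rw [h2, Subgroup.mem_bot, commutatorElement_eq_one_iff_mul_comm] at h4
      exact h4
    have h5 := H424.DegTools.ito h3 (⊤ : Subgroup G) (fun a _ b _ => hc a b)
    rw [Subgroup.index_top, Nat.dvd_one] at h5
    omega
  · exact H961.AN.b9_large_of (@fun _ hn _ hd => H35.AN.a3_low hn hd) (fun hn => a4 hn) (@fun _ hn _ _ hp hk h => a5 hn hp hk h)
      (@fun _ hn _ hd => a6 hn hd) (@fun _ hn _ _ _ _ h => b4 hn h) (@fun _ hn _ _ _ h K _ _ hq hK => b5 hn h K hq hK)
      (@fun _ _ _ _ hm hd hp A hA hc hi hx => H866.AN.b6_frob hm hd hp A hA hc hi hx)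
      (@fun _ _ _ _ _ _ _ hF _ hθ _ ht hq => H521.AN.b7_coprime hF hθ ht hq)
      (@fun _ _ _ _ _ _ _ hF _ hd hc => H104.AN.b8_invariant hF hd hc) h20 h

/-- the socle of `G / Sol(G)` -/
theorem socle (L : Late.{u}) {n : ℕ} (hn : 6 ≤ n) {Y : Type u} [Group Y] [Finite Y] [Nontrivial Y]
    (h : charDegrees Y ⊆ D n) (hrad : ∀ K : Subgroup Y, K.Normal → Group.IsSolvable K → K = ⊥) :
    ∃ S : Subgroup Y, S.Normal ∧ Nonempty (S ≃* An n) ∧ Subgroup.centralizer (S : Set Y) = ⊥ :=
  H212.AN.c3_socle (fun hA h => L.c1 hn hA h) (fun h W hW h0 hm hna => L.c2 hn h W hW h0 hm hna) h hrad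

/-- **S4766**, `n ≥ 6` -/
theorem main (L : Late.{u}) (hout : ∀ {S : Type u} [Group S] [Finite S] [IsSimpleGroup S], Group.IsSolvable (Cfsg.Out S))
    {n : ℕ} (hn : 6 ≤ n) {G : Type u} [Group G] [Finite G] (h : charDegrees G = D n) :
    ∃ (A : Type) (_ : CommGroup A), Nonempty (G ≃* (An n × A)) := by
  rcases Nat.eq_or_lt_of_le hn with h6 | h7
  · subst h6
    exact H546.AN6.e3_six (fun h => H245.AN.b10_small (by norm_num) (by norm_num) h)
      (fun h hrad => socle L le_rfl h hrad) h
  · obtain ⟨N, iN, ⟨e⟩, -, -⟩ := frame (by omega) (fun hs h => not_solvable h7 hs h)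
      (fun h hrad => socle L hn h hrad) hout (L.noChief h7) h
    exact H142.AN.e1_end h7 (H403.O1.degrees_ne n (by omega)) (fun d hd => a6 h7 hd) h N e

end Cfsg.Agent.H691.AN.Main
end

private theorem dce_983bb2baa256 : _root_.True := by
  try have : _root_.True := by simp only [_root_.Cfsg.Agent.H961.AN.Low.eq_1]
  exact _root_.True.intro
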